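import Cfsg.Agent.U62Pencil.Model

/-!
A perfect double cover of `PSU₆(2)` is an image of the fourfold cover, which has no stem extension.
-/

set_option autoImplicit false
set_option linter.style.haveILetI false

namespace CfsgLib.U62Pencil

open CfsgLib.RepBounds.Unit CfsgLib.USixMult
open scoped commutatorElement

universe u

theorem exists_hom {E G P : Type} [Group E] [Group G] [Group P] [Finite E] [Finite P] (hE : commutator E = ⊤)
    (hno : ∀ (Δ : Type) [Group Δ] [Finite Δ] (σ : Δ →* E), Cfsg.IsStemExtension σ → σ.ker = ⊥)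
    (τ : E →* G) (π : P →* G) (hπ : Function.Surjective π) (hc : π.ker ≤ Subgroup.center P) :
    ∃ q : E →* P, π.comp q = τ := by
  let Δ : Subgroup (E × P) := (τ.comp (MonoidHom.fst E P)).eqLocus (π.comp (MonoidHom.snd E P))
  let p1 : Δ →* E := (MonoidHom.fst E P).comp Δ.subtype
  let p2 : Δ →* P := (MonoidHom.snd E P).comp Δ.subtype
  have h1 : Function.Surjective p1 := fun e => by
    obtain ⟨p, hp⟩ := hπ (τ e)
    exact ⟨⟨(e, p), hp.symm⟩, rfl⟩
  have hk : p1.ker ≤ Subgroup.center Δ := by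
    intro x hx
    rw [Subgroup.mem_center_iff]
    intro w
    have hx1 : x.1.1 = 1 := hx
    have hxp : π x.1.2 = 1 := by rw [← show τ x.1.1 = π x.1.2 from x.2, hx1, map_one]
    refine Subtype.ext (Prod.ext ?_ (Subgroup.mem_center_iff.1 (hc hxp) w.1.2))
    show w.1.1 * x.1.1 = x.1.1 * w.1.1
    rw [hx1, one_mul, mul_one]
  have hst := CfsgLib.Schur.isStemExtension_derived p1 h1 hk (Group.isPerfect_def.mpr hE)
  have hb : Function.Bijective (p1.comp (commutator Δ).subtype) :=
    ⟨(MonoidHom.ker_eq_bot_iff _).1 (hno _ _ hst), hst.1⟩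
  let e := MulEquiv.ofBijective _ hb
  refine ⟨(p2.comp (commutator Δ).subtype).comp e.symm.toMonoidHom, MonoidHom.ext fun x => ?_⟩
  show π ((e.symm x).1.1.2) = τ x
  rw [← show τ (e.symm x).1.1.1 = π (e.symm x).1.1.2 from (e.symm x).1.2]
  exact congrArg τ (MulEquiv.apply_symm_apply e x)

/-- A perfect double cover of `PSU₆(2)` is one of the three images. -/
theorem exists_setup_cases {P : Type u} [Group P] [Finite P] {d : P} {K : Type} [Field K] [Fintype K]
    (hK : Fintype.card K = 4) (π : P →* Cfsg.PSU 6 K 2) (hπ : Function.Surjective π)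
    (hker : ∀ z, π z = 1 ↔ z = 1 ∨ z = d) (hcen : ∀ g, Commute d g) (hd2 : d * d = 1) (hd1 : d ≠ 1)
    (hP : commutator P = ⊤) :
    ∃ (X : Ctx K) (q : X.cover →* P) (T : Case), Setup X d q T ∧ (T = case1 ∨ T = case2 ∨ T = case3) := by
  obtain ⟨X⟩ := exists_ctx hK
  let eS : suG X.C (Fin 6) ≃* Cfsg.SU 6 K 2 :=
    MulEquiv.subgroupCongr (by rw [suG_fin_eq, X.hC])
  let τ : X.cover →* Cfsg.PSU 6 K 2 :=
    (QuotientGroup.mk' (Subgroup.center (Cfsg.SU 6 K 2))).comp (eS.toMonoidHom.comp X.nat)
  have hτ : Function.Surjective τ :=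
    (QuotientGroup.mk'_surjective _).comp (eS.surjective.comp X.nat_surjective)
  have hτk : ∀ g, τ g = 1 ↔ X.nat g ∈ Subgroup.center (suG X.C (Fin 6)) := by
    intro g
    show QuotientGroup.mk' _ (eS (X.nat g)) = 1 ↔ _
    rw [QuotientGroup.mk'_apply, QuotientGroup.eq_one_iff, Subgroup.mem_center_iff,
      Subgroup.mem_center_iff]
    exact ⟨fun h y => eS.injective (by rw [map_mul, map_mul]; exact h (eS y)),
      fun h y => by
        obtain ⟨y, rfl⟩ := eS.surjective y
        rw [← map_mul, ← map_mul, h]⟩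
  haveI : Finite X.cover := inferInstance
  -- move the cover into the smallest universe
  let ρ : P →* Equiv.Perm (Fin (Nat.card P)) :=
    ((Finite.equivFin P).permCongrHom).toMonoidHom.comp (MulAction.toPermHom P P)
  have hρ : Function.Injective ρ := (Equiv.permCongrHom _).injective.comp MulAction.toPerm_injective
  let ι : P ≃* ρ.range := MonoidHom.ofInjective hρ
  have hπc : π.ker ≤ Subgroup.center P := fun z hz => Subgroup.mem_center_iff.2 fun g => by
    rcases (hker z).1 hz with rfl | rfl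
    · simp
    · exact (hcen g).eq.symm
  obtain ⟨q₀, hq₀⟩ := exists_hom X.cover_perfect (fun Δ _ _ σ hσ => X.cover_no_stem σ hσ) τ
    (π.comp ι.symm.toMonoidHom) (hπ.comp ι.symm.surjective) (by
      intro z hz
      rw [Subgroup.mem_center_iff]
      intro g
      refine ι.symm.injective ?_
      rw [map_mul, map_mul]
      exact Subgroup.mem_center_iff.1 (hπc (show ι.symm z ∈ π.ker from hz)) _)
  let q : X.cover →* P := ι.symm.toMonoidHom.comp q₀
  have hq : ∀ c, π (q c) = τ c := fun c => DFunLike.congr_fun hq₀ c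
  have hqk : ∀ c, (q c = 1 ∨ q c = d) ↔ X.nat c ∈ Subgroup.center (suG X.C (Fin 6)) := fun c => by
    rw [← hker, hq, hτk]
  -- it is onto
  have hsurj : Function.Surjective q := by
    rw [← MonoidHom.range_eq_top, eq_top_iff, ← hP, commutator_def, Subgroup.commutator_le]
    intro a _ b _
    have key : ∀ a : P, ∃ c, a⁻¹ * q c ∈ Subgroup.center P := fun a => by
      obtain ⟨c, hc⟩ := hτ (π a)
      exact ⟨c, hπc (by rw [MonoidHom.mem_ker, map_mul, map_inv, hq, hc, inv_mul_cancel])⟩
    obtain ⟨c, hc⟩ := key a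
    obtain ⟨c', hc'⟩ := key b
    refine ⟨⁅c, c'⁆, ?_⟩
    rw [map_commutatorElement, ← mul_inv_cancel_left a (q c), ← mul_inv_cancel_left b (q c'),
      CfsgLib.SchurTheory.commutatorElement_mul_mem_center hc hc']
  -- the order
  have hcard : Nat.card P = 18393661440 := by
    have h12 : Nat.card τ.ker = 12 := by
      have : X.kerHom.range = τ.ker := Subgroup.ext fun g => X.kerHom_range.trans (hτk g).symm
      rw [← this, ← Nat.card_congr (MonoidHom.ofInjective X.kerHom_injective).toEquiv,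
        Nat.card_congr Multiplicative.toAdd, Nat.card_prod, Nat.card_zmod, Nat.card_prod, Nat.card_zmod]
    have h2 : Nat.card π.ker = 2 := by
      rw [← SetLike.coe_sort_coe, Nat.card_coe_set_eq,
        show (π.ker : Set P) = {1, d} from Set.ext fun z => (hker z).trans (by simp), Set.ncard_pair hd1.symm]
    have e1 := Subgroup.card_mul_index τ.ker
    have e2 := Subgroup.card_mul_index π.ker
    rw [Subgroup.index_ker, MonoidHom.range_eq_top.2 hτ, Subgroup.card_top, h12, X.card_cover] at e1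
    rw [Subgroup.index_ker, MonoidHom.range_eq_top.2 hπ, Subgroup.card_top, h2] at e2
    omega
  -- the three cases
  have hzel : ∀ z, q (X.zel z) = 1 ∨ q (X.zel z) = d := fun z => (hqk _).2 (by rw [X.nat_zel]; exact one_mem _)
  have hscal : q (X.el scal) = 1 := by
    rcases (hqk _).2 X.nat_scal_central with h | h
    · exact h
    · exfalso
      have h3 := congrArg q X.scal_pow
      rw [map_pow, h, map_one, pow_succ, pow_two, hd2, one_mul] at h3
      exact hd1 h3
  have mk : ∀ T : Case, T.Ok → T.k < 3 → (T = case1 ∨ T = case2 ∨ T = case3) →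
      q (X.zel (1, 0)) = cond (Nat.beq ((prj T.k).getD 9 0) 512) d 1 →
      q (X.zel (0, 1)) = cond (Nat.beq ((prj T.k).getD 10 0) 512) d 1 →
      ∃ (X : Ctx K) (q : X.cover →* P) (T : Case), Setup X d q T ∧ (T = case1 ∨ T = case2 ∨ T = case3) :=
    fun T hT hlt hcase h15 h16 => ⟨X, q, T, ⟨hT, hlt, hsurj, hcen, hd2, hd1, hqk,
      by rw [← h15, ← X.el_z15]; rfl, by rw [← h16, ← X.el_z16]; rfl, hcard⟩, hcase⟩
  rcases hzel (1, 0) with h15 | h15 <;> rcases hzel (0, 1) with h16 | h16
  · exfalso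
    obtain ⟨c, hc⟩ := hsurj d
    obtain ⟨v, hv⟩ := X.kerHom_range.2 ((hqk c).1 (Or.inr hc))
    obtain ⟨⟨a, z⟩, rfl⟩ := Multiplicative.ofAdd.surjective v
    rw [X.kerHom_apply] at hv
    rw [← hv, map_mul, map_pow, hscal, one_pow, one_mul] at hc
    have hz : ∀ z : Z2, z = 0 ∨ z = (1, 0) ∨ z = (0, 1) ∨ z = (1, 0) + (0, 1) := by decide
    have hz := hz z
    rcases hz with rfl | rfl | rfl | rfl
    · exact hd1 (by rw [← hc, X.zel_zero, map_one])
    · exact hd1 (hc.symm.trans h15)
    · exact hd1 (hc.symm.trans h16)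
    · exact hd1 (by rw [← hc, ← X.zel_mul, map_mul, h15, h16, one_mul])
  · exact mk case1 case1_ok (by decide) (Or.inl rfl) h15 h16
  · exact mk case2 case2_ok (by decide) (Or.inr (Or.inl rfl)) h15 h16
  · exact mk case3 case3_ok (by decide) (Or.inr (Or.inr rfl)) h15 h16

/-- A perfect double cover of `PSU₆(2)` is an image of the fourfold cover. -/
theorem exists_setup {P : Type u} [Group P] [Finite P] {d : P} {K : Type} [Field K] [Fintype K]
    (hK : Fintype.card K = 4) (π : P →* Cfsg.PSU 6 K 2) (hπ : Function.Surjective π)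
    (hker : ∀ z, π z = 1 ↔ z = 1 ∨ z = d) (hcen : ∀ g, Commute d g) (hd2 : d * d = 1) (hd1 : d ≠ 1)
    (hP : commutator P = ⊤) :
    ∃ (X : Ctx K) (q : X.cover →* P) (T : Case), Setup X d q T := by
  obtain ⟨X, q, T, h, -⟩ := exists_setup_cases hK π hπ hker hcen hd2 hd1 hP
  exact ⟨X, q, T, h⟩

end CfsgLib.U62Pencil
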