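import Cfsg.Agent.U62Pencil.Sylow
import Cfsg.Agent.U62Pencil.Quotient
import Cfsg.Agent.OutTwo.Six

/-!
The conjugates of an involution with centraliser a double cover of `PSU₆(2)` in the elementary abelian
subgroup of order `2¹⁰`: there are exactly 22, fused by its normaliser.
-/

set_option autoImplicit false
set_option linter.style.haveILetI false
set_option linter.unusedSectionVars false
set_option maxRecDepth 100000

namespace CfsgLib.U62Pencil

open CfsgLib.RepBounds.Unit CfsgLib.USixMult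
open CfsgLib.Schur.Pc (ev tailSubgroup)
open scoped commutatorElement

universe u v

/-- `d` in its centraliser. -/
def selfC {G : Type u} [Group G] (d : G) : ↥(Subgroup.centralizer ({d} : Set G)) :=
  ⟨d, Subgroup.mem_centralizer_singleton_iff.2 rfl⟩

variable {F : Type v} [Field F] [Fintype F] {X : Ctx F}

/-- Conjugating the map by an element gives another setup. -/
theorem Setup.conj {P : Type u} [Group P] {d : P} {q : X.cover →* P} {T : Case} (H : Setup X d q T) (g : P) :
    Setup X d ((MulAut.conj g).toMonoidHom.comp q) T := by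
  have hd : g * d * g⁻¹ = d := by rw [← (H.central g).eq, mul_inv_cancel_right]
  refine ⟨H.ok, H.lt, (MulAut.conj g).surjective.comp H.surj, H.central, H.sq, H.ne, fun c => ?_, ?_, ?_, H.card⟩
  · rw [← H.ker]
    show g * q c * g⁻¹ = 1 ∨ g * q c * g⁻¹ = d ↔ _
    rw [conj_eq_one_iff]
    refine or_congr Iff.rfl ?_
    conv_lhs => rw [← hd]
    exact ⟨fun e => mul_left_cancel (mul_right_cancel e), fun e => by rw [e, hd]⟩
  · show g * q _ * g⁻¹ = _
    rw [H.z15]
    cases Nat.beq ((prj T.k).getD 9 0) 512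
    · simp
    · exact hd
  · show g * q _ * g⁻¹ = _
    rw [H.z16]
    cases Nat.beq ((prj T.k).getD 10 0) 512
    · simp
    · exact hd

variable {G : Type u} [Group G] [Finite G] {d : G} {q : X.cover →* ↥(Subgroup.centralizer ({d} : Set G))}
  {T : Case} (H : Setup X (selfC d) q T)

/-- The element of a code in the group. -/
noncomputable def elG (q : X.cover →* ↥(Subgroup.centralizer ({d} : Set G))) (c : ℕ) : G :=
  ((el10 q (selfC d) c : ↥(Subgroup.centralizer ({d} : Set G))) : G)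

namespace Setup

include H

/-- The subgroup in the group. -/
noncomputable def AG : Subgroup G := H.Asub.map (Subgroup.centralizer ({d} : Set G)).subtype

theorem mem_AG {g : G} : g ∈ H.AG ↔ ∃ c < 1024, g = elG q c := by
  constructor
  · rintro ⟨_, ⟨c, hc, rfl⟩, rfl⟩; exact ⟨c, hc, rfl⟩
  · rintro ⟨c, hc, rfl⟩; exact ⟨_, ⟨c, hc, rfl⟩, rfl⟩

theorem elementary_AG : Cfsg.IsElementaryAbelian 2 H.AG :=
  CfsgLib.PLocal.isElementaryAbelian_map H.elementary_Asub _

theorem card_AG : Nat.card H.AG = 2 ^ 10 := by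
  rw [AG, Subgroup.card_map_of_injective (Subgroup.subtype_injective _), H.card_Asub]

theorem elG_inj {x y : ℕ} (hx : x < 1024) (hy : y < 1024) (h : elG q x = elG q y) : x = y :=
  H.el10_inj hx hy (Subtype.ext h)

theorem elG_mul (x y : ℕ) : elG q x * elG q y = elG q (Nat.xor x y) :=
  congrArg Subtype.val (H.el10_mul x y)

theorem elG_d : elG q 512 = d := congrArg Subtype.val H.el10_d

/-- The conjugates of `d` in the subgroup. -/
noncomputable def omega : Set G := {x | x ∈ H.AG ∧ IsConj d x}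

theorem d_mem_omega : d ∈ H.omega := ⟨H.mem_AG.2 ⟨512, by norm_num, H.elG_d.symm⟩, IsConj.refl d⟩

theorem omega_conj {g x : G} (hg : g ∈ Subgroup.normalizer (H.AG : Set G)) (hx : x ∈ H.omega) :
    g * x * g⁻¹ ∈ H.omega :=
  ⟨(Subgroup.mem_normalizer_iff.1 hg x).1 hx.1, hx.2.trans (isConj_iff.2 ⟨g, rfl⟩)⟩

/-- An elementary abelian subgroup of the centralizer of order `2¹⁰` is conjugate to the one. -/
theorem exists_conj_eq {B : Subgroup ↥(Subgroup.centralizer ({d} : Set G))} (hB : Cfsg.IsElementaryAbelian 2 B)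
    (hc : 1024 ≤ Nat.card B) : ∃ c, ∀ b ∈ B, c * b * c⁻¹ ∈ H.Asub := by
  haveI : Fact (Nat.Prime 2) := ⟨Nat.prime_two⟩
  obtain ⟨S', hS'⟩ := (CfsgLib.PLocal.isPGroup_of_isElementaryAbelian hB).exists_le_sylow
  obtain ⟨c, hc'⟩ := MulAction.exists_smul_eq (↥(Subgroup.centralizer ({d} : Set G))) S' H.sylow
  refine ⟨c, fun b hb => ?_⟩
  have hsub : B.map (MulAut.conj c).toMonoidHom ≤ H.Ssub := by
    rintro _ ⟨b, hb, rfl⟩
    rw [← H.coe_sylow, ← hc', Sylow.coe_subgroup_smul]
    exact ⟨b, hS' hb, rfl⟩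
  have := (H.elementary_le hsub (CfsgLib.PLocal.isElementaryAbelian_map hB _)).2
    (by rwa [Subgroup.card_map_of_injective (MulAut.conj c).injective])
  exact this.le ⟨b, hb, rfl⟩

/-- The conjugates of `d` in the subgroup are fused by its normaliser. -/
theorem transitive {x : G} (hx : x ∈ H.omega) :
    ∃ g ∈ Subgroup.normalizer (H.AG : Set G), g * d * g⁻¹ = x := by
  obtain ⟨g, hg⟩ := isConj_iff.1 hx.2
  have hcomm : ∀ {a b : G}, a ∈ H.AG → b ∈ H.AG → Commute a b := fun ha hb =>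
    CfsgLib.PLocal.comm_of_isMulCommutative H.elementary_AG.1 ha hb
  have hmem : ∀ y ∈ H.AG, g⁻¹ * y * g ∈ Subgroup.centralizer ({d} : Set G) := by
    intro y hy
    refine Subgroup.mem_centralizer_singleton_iff.2 ?_
    have := (hcomm hy hx.1).map (MulAut.conj g⁻¹)
    simp only [MulAut.conj_apply, inv_inv] at this
    rwa [show g⁻¹ * x * g = d by rw [← hg]; group] at this
  let f : ↥H.AG →* ↥(Subgroup.centralizer ({d} : Set G)) :=
    { toFun := fun y => ⟨g⁻¹ * y * g, hmem y y.2⟩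
      map_one' := Subtype.ext (by simp)
      map_mul' := fun y z => Subtype.ext (by
        show g⁻¹ * ((y : G) * z) * g = g⁻¹ * y * g * (g⁻¹ * z * g)
        group) }
  have hf : Function.Injective f := fun y z he =>
    Subtype.ext (mul_left_cancel (mul_right_cancel (congrArg Subtype.val he)))
  have hBe : Cfsg.IsElementaryAbelian 2 f.range := by
    rw [MonoidHom.range_eq_map]
    refine CfsgLib.PLocal.isElementaryAbelian_map ⟨?_, fun y _ => Subtype.ext (H.elementary_AG.2 y y.2)⟩ f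
    exact ⟨⟨fun y z => Subtype.ext (Subtype.ext (hcomm y.1.2 z.1.2).eq)⟩⟩
  have hBc : 1024 ≤ Nat.card f.range := by
    rw [← Nat.card_congr (MonoidHom.ofInjective hf).toEquiv, H.card_AG]; norm_num
  obtain ⟨k, hk⟩ := H.exists_conj_eq hBe hBc
  refine ⟨g * (k : G)⁻¹, ?_, ?_⟩
  · suffices h1 : (k : G) * g⁻¹ ∈ Subgroup.normalizer (H.AG : Set G) by
      have := inv_mem h1
      rwa [_root_.mul_inv_rev, inv_inv] at this
    refine Subgroup.mem_normalizer_fintype fun y hy => ⟨_, hk _ ⟨⟨y, hy⟩, rfl⟩, ?_⟩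
    show (k : G) * (g⁻¹ * y * g) * (k : G)⁻¹ = (k : G) * g⁻¹ * y * ((k : G) * g⁻¹)⁻¹
    group
  · have hkd : Commute (k : G) d := Subgroup.mem_centralizer_singleton_iff.1 k.2
    calc g * (k : G)⁻¹ * d * (g * (k : G)⁻¹)⁻¹ = g * ((k : G)⁻¹ * (d * (k : G))) * g⁻¹ := by group
      _ = x := by rw [← hkd.eq, inv_mul_cancel_left, hg]

/-- The number of conjugates divides the order of `GL(10,2)`. -/
theorem ncard_dvd : H.omega.ncard ∣ ∏ i : Fin 10, (2 ^ 10 - 2 ^ (i : ℕ)) := by
  have h1 := CfsgLib.OutTwo.card_mulAut_dvd (V := ↥H.AG)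
    (fun v => Subtype.ext (by rw [Subgroup.coe_mul, ← pow_two]; exact H.elementary_AG.2 v v.2)) H.card_AG
  set φ := H.AG.normalizerMonoidHom
  set o : ↥H.AG := ⟨d, H.d_mem_omega.1⟩
  have himg : H.omega = (fun y : ↥H.AG => (y : G)) '' MulAction.orbit φ.range o := by
    ext x
    constructor
    · intro hx
      obtain ⟨g, hg, rfl⟩ := H.transitive hx
      exact ⟨_, ⟨⟨φ ⟨g, hg⟩, ⟨g, hg⟩, rfl⟩, rfl⟩, rfl⟩
    · rintro ⟨_, ⟨⟨_, g, rfl⟩, rfl⟩, rfl⟩
      exact H.omega_conj g.2 H.d_mem_omega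
  refine Nat.dvd_trans ?_ ((Subgroup.card_subgroup_dvd_card φ.range).trans h1)
  rw [himg, Set.ncard_image_of_injective _ Subtype.coe_injective, ← MulAction.index_stabilizer]
  exact Subgroup.index_dvd_card _

/-- The nine elements normalise the subgroup. -/
theorem gl_conj {j : ℕ} (hj : j < 9) :
    ((q (X.el (gl.getD j 0)) : ↥(Subgroup.centralizer ({d} : Set G))) : G) ∈
      Subgroup.normalizer (H.AG : Set G) := by
  have hm := H.ok.mat
  simp only [Case.okMat, Mathieu.allBelow_iff, Bool.and_eq_true, List.all_eq_true, Nat.blt_eq] at hm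
  refine Subgroup.mem_normalizer_fintype fun y hy => ?_
  obtain ⟨c, hc, rfl⟩ := H.mem_AG.1 hy
  exact H.mem_AG.2 ⟨_, ap_lt (hm j hj).2 c, congrArg Subtype.val (H.conj_gl hj c)⟩

/-- The pattern of the conjugates. -/
theorem exists_pat : ∃ ch < 32, ∀ c < 1024, (elG q c ∈ H.omega ↔ T.pat ch c = true) := by
  classical
  obtain ⟨⟨ch, hch⟩, hb⟩ : ∃ ch : Fin 32, ∀ i : Fin 5,
      Nat.testBit ch.1 i.1 = decide (elG q (T.reps.getD (i.1 + 2) 0) ∈ H.omega) := by
    have h : ∀ b : Fin 5 → Bool, ∃ ch : Fin 32, ∀ i : Fin 5, Nat.testBit ch.1 i.1 = b i := by decide +kernel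
    exact h _
  refine ⟨ch, hch, fun c hc => ?_⟩
  have hf := H.ok.forest
  simp only [Case.okForest, Bool.and_eq_true, Mathieu.allBelow_iff, List.all_eq_true, Bool.or_eq_true, Nat.blt_eq] at hf
  obtain ⟨⟨⟨⟨hlen, h0⟩, h1⟩, -⟩, hstep⟩ := hf
  have step : ∀ c < 1024, T.stp c < 1024 ∧ (elG q c ∈ H.omega ↔ elG q (T.stp c) ∈ H.omega) := by
    intro c hc
    obtain ⟨⟨-, hg⟩, -⟩ := hstep c hc
    unfold Case.stp
    rcases hg with hg | ⟨hg9, hg⟩
    · rw [hg, cond_true]; exact ⟨hc, Iff.rfl⟩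
    cases hbq : Nat.beq (T.gen c) 9
    · rw [cond_false]
      refine ⟨Nat.lt_succ_of_le (show Nat.shiftRight T.forest _ &&& 1023 ≤ 1023 from Nat.and_le_right), ?_⟩
      have hN := H.gl_conj hg9
      have e : ((q (X.el (gl.getD (T.gen c) 0)) : ↥(Subgroup.centralizer ({d} : Set G))) : G) * elG q (T.par c) *
          ((q (X.el (gl.getD (T.gen c) 0)) : ↥(Subgroup.centralizer ({d} : Set G))) : G)⁻¹ = elG q c := by
        have := congrArg Subtype.val (H.conj_gl hg9 (T.par c))
        rw [Nat.eq_of_beq_eq_true hg] at this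
        exact this
      constructor
      · intro h
        have := H.omega_conj (inv_mem hN) h
        rwa [← e, inv_inv, show ∀ a b : G, a⁻¹ * (a * b * a⁻¹) * a = b from fun a b => by group] at this
      · intro h
        exact e ▸ H.omega_conj hN h
    · rw [cond_true]; exact ⟨hc, Iff.rfl⟩
  obtain ⟨⟨hl, -⟩, hroot⟩ := hstep c hc
  obtain ⟨l1, e1⟩ := step c hc
  obtain ⟨l2, e2⟩ := step _ l1
  obtain ⟨l3, e3⟩ := step _ l2
  obtain ⟨l4, e4⟩ := step _ l3
  obtain ⟨l5, e5⟩ := step _ l4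
  obtain ⟨l6, e6⟩ := step _ l5
  obtain ⟨l7, e7⟩ := step _ l6
  obtain ⟨-, e8⟩ := step _ l7
  rw [e1, e2, e3, e4, e5, e6, e7, e8, Nat.eq_of_beq_eq_true hroot]
  show _ ↔ (Nat.beq (T.lab c) 1 || (Nat.ble 2 (T.lab c) && Nat.testBit ch (Nat.sub (T.lab c) 2))) = true
  generalize T.lab c = l at hl ⊢
  rcases (show l = 0 ∨ l = 1 ∨ 2 ≤ l by omega) with rfl | rfl | hl2
  · rw [show T.reps.getD 0 0 = 0 by
      have hl7 := Nat.eq_of_beq_eq_true hlen
      have h0' := Nat.eq_of_beq_eq_true h0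
      rw [List.getD_eq_getElem _ _ (by omega)] at h0' ⊢
      exact h0']
    simp only [show Nat.beq 0 1 = false from rfl, show Nat.ble 2 0 = false from rfl, Bool.false_and,
      Bool.or_false, Bool.false_eq_true, iff_false]
    rintro ⟨-, hcj⟩
    have he : elG q 0 = 1 := congrArg Subtype.val H.el10_zero
    rw [he] at hcj
    exact H.ne (Subtype.ext (isConj_one_left.1 hcj))
  · rw [Nat.eq_of_beq_eq_true h1, H.elG_d]
    simp [H.d_mem_omega]
  · have hb' := hb ⟨l - 2, by omega⟩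
    simp only [show l - 2 + 2 = l by omega] at hb'
    rw [show Nat.beq l 1 = false from Bool.eq_false_iff.2 fun e => by have := Nat.eq_of_beq_eq_true e; omega,
      show Nat.ble 2 l = true from Nat.ble_eq_true_of_le hl2, Bool.false_or, Bool.true_and,
      show Nat.sub l 2 = l - 2 from rfl, hb', decide_eq_true_eq]

/-- Some other conjugate lies in the subgroup. -/
theorem exists_other (hnwc : ∃ g : G, g * d * g⁻¹ ∈ Subgroup.centralizer ({d} : Set G) ∧ g * d * g⁻¹ ≠ d) :
    ∃ x ∈ H.omega, x ≠ d := by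
  obtain ⟨g, hgC, hne⟩ := hnwc
  have hd2 : d * d = 1 := congrArg Subtype.val H.sq
  obtain ⟨c, hc⟩ := H.exists_conj_mem (y := ⟨g * d * g⁻¹, hgC⟩) (Subtype.ext (by
    show g * d * g⁻¹ * (g * d * g⁻¹) = 1
    rw [show g * d * g⁻¹ * (g * d * g⁻¹) = g * (d * d) * g⁻¹ by group, hd2, mul_one, mul_inv_cancel]))
  refine ⟨(c : G) * (g * d * g⁻¹) * (c : G)⁻¹, ⟨⟨_, hc, rfl⟩, isConj_iff.2 ⟨(c : G) * g, by group⟩⟩, fun e => hne ?_⟩
  have hcd : Commute (c : G) d := Subgroup.mem_centralizer_singleton_iff.1 c.2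
  calc g * d * g⁻¹ = (c : G)⁻¹ * ((c : G) * (g * d * g⁻¹) * (c : G)⁻¹) * c := by group
    _ = d := by rw [e, mul_assoc, ← hcd.eq, inv_mul_cancel_left]

/-- The elements fixing the chain. -/
theorem chain_spec :
    ⁅⁅⁅⁅H.Asub, H.Ssub⁆, H.Ssub⁆, H.Ssub⁆, H.Ssub⁆ ≤ Subgroup.zpowers (el10 q (selfC d) 256) ∧
      el10 q (selfC d) 256 ∈ ⁅⁅⁅⁅H.Asub, H.Ssub⁆, H.Ssub⁆, H.Ssub⁆, H.Ssub⁆ ∧
      ∀ s ∈ H.Ssub, Commute s (el10 q (selfC d) 256) := by
  have hc := H.ok.chain
  simp only [Case.okChain, Bool.and_eq_true, Mathieu.allBelow_iff, List.all_eq_true, Nat.blt_eq,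
    List.mem_range] at hc
  obtain ⟨⟨⟨⟨⟨⟨⟨⟨⟨-, hbase⟩, htop⟩, -⟩, hstep⟩, hw⟩, hwlen⟩, hwu⟩, hwit⟩, hfix⟩ := hc
  have memb : ∀ {x : ℕ} {L : List ℕ}, mem x L = true → x ∈ L := fun {x L} h => by
    obtain ⟨y, hy, e⟩ := List.any_eq_true.1 h
    exact Nat.eq_of_beq_eq_true e ▸ hy
  let K : ℕ → Subgroup ↥(Subgroup.centralizer ({d} : Set G)) := fun i =>
    Subgroup.closure {g | ∃ b ∈ T.chain.getD i [], g = el10 q (selfC d) b}
  have hspan : ∀ (i : ℕ) (B : List ℕ), (∀ b ∈ B, el10 q (selfC d) b ∈ K i) →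
      ∀ x ∈ spanL B, el10 q (selfC d) x ∈ K i := by
    intro i B
    induction B with
    | nil =>
      intro _ x hx
      rw [List.mem_singleton.1 hx, H.el10_zero]
      exact one_mem _
    | cons b B ih =>
      intro h x hx
      have ih' := ih fun k hk => h k (List.mem_cons_of_mem _ hk)
      rcases List.mem_append.1 hx with hx | hx
      · exact ih' x hx
      · obtain ⟨y, hy, rfl⟩ := List.mem_map.1 hx
        rw [← H.el10_mul]
        exact mul_mem (h b List.mem_cons_self) (ih' y hy)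
  -- the commutator of a code with an element of the Sylow subgroup
  have hcomm : ∀ x, ∀ s ∈ H.Ssub, ∃ u < 64,
      ⁅el10 q (selfC d) x, s⁆ = el10 q (selfC d) (Nat.xor x (ap (T.actM u) x)) := by
    intro x s hs
    obtain ⟨y, -, u, hu, rfl⟩ := H.exists_nf hs
    refine ⟨u, hu, ?_⟩
    rw [← H.el10_mul, commutatorElement_def, H.el10_inv, ← H.conj_rp hu]
    have hc := H.el10_comm y (ap (T.actM u) x)
    rw [← H.conj_rp hu] at hc
    calc el10 q (selfC d) x * (el10 q (selfC d) y * rp q u) * el10 q (selfC d) x *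
          (el10 q (selfC d) y * rp q u)⁻¹
        = el10 q (selfC d) x * (el10 q (selfC d) y * (rp q u * el10 q (selfC d) x * (rp q u)⁻¹) *
            (el10 q (selfC d) y)⁻¹) := by group
      _ = _ := by rw [hc.eq, mul_inv_cancel_right]
  have hnext : ∀ i < 4, ⁅K i, H.Ssub⁆ ≤ K (i + 1) := by
    intro i hi
    rw [Subgroup.commutator_le]
    intro x hx s hs
    suffices h : ∃ y, x = el10 q (selfC d) y ∧ ∀ u < 64,
        el10 q (selfC d) (Nat.xor y (ap (T.actM u) y)) ∈ K (i + 1) by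
      obtain ⟨y, rfl, hy⟩ := h
      obtain ⟨u, hu, e⟩ := hcomm y s hs
      exact e ▸ hy u hu
    induction hx using Subgroup.closure_induction with
    | mem x hx =>
      obtain ⟨b, hb, rfl⟩ := hx
      exact ⟨b, rfl, fun u hu => hspan _ _ (fun k hk => Subgroup.subset_closure ⟨k, hk, rfl⟩) _
        (memb (hstep i hi u hu b hb))⟩
    | one =>
      refine ⟨0, H.el10_zero.symm, fun u hu => ?_⟩
      rw [ap_zero, show Nat.xor 0 0 = 0 from rfl, H.el10_zero]
      exact one_mem _
    | mul a b _ _ iha ihb =>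
      obtain ⟨x, rfl, hx⟩ := iha
      obtain ⟨y, rfl, hy⟩ := ihb
      refine ⟨Nat.xor x y, H.el10_mul x y, fun u hu => ?_⟩
      rw [← H.el10_mul, ← H.conj_rp hu, ← H.el10_mul x y,
        show rp q u * (el10 q (selfC d) x * el10 q (selfC d) y) * (rp q u)⁻¹ =
          (rp q u * el10 q (selfC d) x * (rp q u)⁻¹) * (rp q u * el10 q (selfC d) y * (rp q u)⁻¹) by group,
        H.conj_rp hu, H.conj_rp hu, (H.el10_comm y (ap (T.actM u) x)).mul_mul_mul_comm,
        H.el10_mul, H.el10_mul y]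
      exact mul_mem (hx u hu) (hy u hu)
    | inv a _ iha =>
      obtain ⟨x, rfl, hx⟩ := iha
      exact ⟨x, H.el10_inv x, hx⟩
  have hA0 : H.Asub ≤ K 0 := by
    rintro _ ⟨x, -, rfl⟩
    have key : ∀ (L : List ↥(Subgroup.centralizer ({d} : Set G))), (∀ g ∈ L, g ∈ K 0) → ∀ c, pr L c ∈ K 0 := by
      intro L
      induction L with
      | nil => exact fun _ _ => one_mem _
      | cons g L ih =>
        intro h c
        refine mul_mem ?_ (ih (fun k hk => h k (List.mem_cons_of_mem _ hk)) _)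
        cases Nat.beq (Nat.land c 1) 1
        · exact one_mem _
        · exact h g List.mem_cons_self
    refine key _ (fun g hg => ?_) x
    obtain ⟨i, hi, rfl⟩ := List.getElem_of_mem hg
    have hi10 : i < 10 := by simpa [gens, al] using hi
    rw [← List.getD_eq_getElem (d := 1), ← H.el10_bit i hi10]
    exact Subgroup.subset_closure ⟨_, memb (hbase i hi10), rfl⟩
  have h4 : K 4 ≤ Subgroup.zpowers (el10 q (selfC d) 256) := by
    rw [Subgroup.closure_le]
    rintro _ ⟨b, hb, rfl⟩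
    rw [Nat.eq_of_beq_eq_true (htop b hb)]
    exact Subgroup.mem_zpowers _
  refine ⟨?_, ?_, ?_⟩
  · refine le_trans ?_ h4
    refine le_trans ?_ (hnext 3 (by norm_num))
    refine Subgroup.commutator_mono (le_trans ?_ (hnext 2 (by norm_num))) le_rfl
    refine Subgroup.commutator_mono (le_trans ?_ (hnext 1 (by norm_num))) le_rfl
    refine Subgroup.commutator_mono (le_trans ?_ (hnext 0 (by norm_num))) le_rfl
    exact Subgroup.commutator_mono hA0 le_rfl
  · obtain ⟨u1, u2, u3, u4, he⟩ : ∃ a b c e, T.wit.2 = [a, b, c, e] := by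
      have := Nat.eq_of_beq_eq_true hwlen
      match hL : T.wit.2, this with
      | [a, b, c, e], _ => exact ⟨a, b, c, e, rfl⟩
    rw [he] at hwit hwu
    simp only [List.foldl_cons, List.foldl_nil] at hwit
    have step : ∀ {Y : Subgroup ↥(Subgroup.centralizer ({d} : Set G))} {x u : ℕ}, u < 64 → el10 q (selfC d) x ∈ Y →
        el10 q (selfC d) (Nat.xor x (ap (T.actM u) x)) ∈ ⁅Y, H.Ssub⁆ := by
      intro Y x u hu hx
      have h1 := Subgroup.commutator_mem_commutator hx (H.rp_mem (u := u))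
      rwa [← H.el10_mul, ← H.conj_rp hu, ← show ⁅el10 q (selfC d) x, rp q u⁆ =
        el10 q (selfC d) x * (rp q u * el10 q (selfC d) x * (rp q u)⁻¹) by
          rw [commutatorElement_def, H.el10_inv]; group]
    rw [← Nat.eq_of_beq_eq_true hwit]
    exact step (hwu u4 (by simp)) (step (hwu u3 (by simp)) (step (hwu u2 (by simp)) (step (hwu u1 (by simp))
      (show el10 q (selfC d) T.wit.1 ∈ H.Asub from ⟨_, hw, rfl⟩))))
  · intro s hs
    obtain ⟨y, -, u, hu, rfl⟩ := H.exists_nf hs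
    refine Commute.mul_left (H.el10_comm y 256) ?_
    have := H.conj_rp hu 256
    rw [Nat.eq_of_beq_eq_true (hfix u hu)] at this
    exact mul_inv_eq_iff_eq_mul.1 this

/-- There are exactly 22 conjugates. -/
theorem ncard_eq (hnwc : ∃ g : G, g * d * g⁻¹ ∈ Subgroup.centralizer ({d} : Set G) ∧ g * d * g⁻¹ ≠ d) :
    H.omega.ncard = 22 := by
  classical
  obtain ⟨ch, hch, hpat⟩ := H.exists_pat
  set O : Finset ℕ := (Finset.range 1024).filter fun c => T.pat ch c = true with hO
  have hsize : H.omega.ncard = T.size ch := by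
    have himg : H.omega = ↑(O.image (elG q)) := by
      ext g
      simp only [hO, Finset.coe_image, Finset.coe_filter, Finset.mem_range, Set.mem_image, Set.mem_ofPred_eq]
      constructor
      · intro hg
        obtain ⟨c, hc, rfl⟩ := H.mem_AG.1 hg.1
        exact ⟨c, ⟨hc, (hpat c hc).1 hg⟩, rfl⟩
      · rintro ⟨c, ⟨hc, h⟩, rfl⟩; exact (hpat c hc).2 h
    rw [himg, Set.ncard_coe_finset, Finset.card_image_of_injOn (fun x hx y hy =>
      H.elG_inj (Finset.mem_range.1 (Finset.mem_filter.1 hx).1) (Finset.mem_range.1 (Finset.mem_filter.1 hy).1)),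
      Case.size, List.countP_eq_length_filter]
    show ((List.range 1024).filter fun c => decide (T.pat ch c = true)).length = _
    simp
  -- the translations are equivariant
  have htrans : ∀ x < 1024, T.pat ch x = true → T.trans ch x = T.trans ch 512 := by
    intro x hx hpx
    obtain ⟨g, hg, hgx⟩ := H.transitive ((hpat x hx).2 hpx)
    have hmap : ∀ c, c < 1024 → ∃ c' < 1024, g * elG q c * g⁻¹ = elG q c' := fun c hc =>
      H.mem_AG.1 ((Subgroup.mem_normalizer_iff.1 hg _).1 (H.mem_AG.2 ⟨c, hc, rfl⟩))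
    choose f hflt hf using hmap
    set S : ℕ → Finset ℕ := fun x => (Finset.range 1024).filter fun c =>
      (T.pat ch c && T.pat ch (Nat.xor x c)) = true with hS
    have hS' : ∀ x, T.trans ch x = (S x).card := fun x => by
      rw [Case.trans, List.countP_eq_length_filter]
      show _ = ((List.range 1024).filter fun c => decide ((T.pat ch c && T.pat ch (Nat.xor x c)) = true)).length
      simp
    have hxor : ∀ {a b : ℕ}, a < 1024 → b < 1024 → Nat.xor a b < 1024 := fun ha hb =>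
      Nat.xor_lt_two_pow (n := 10) ha hb
    have hfx : ∀ (c : ℕ) (hc : c < 1024), g * elG q (Nat.xor 512 c) * g⁻¹ = elG q (Nat.xor x (f c hc)) := by
      intro c hc
      rw [← H.elG_mul, ← H.elG_mul, H.elG_d, ← hgx, ← hf c hc]
      group
    have hiff : ∀ c, (hc : c < 1024) → ((T.pat ch c && T.pat ch (Nat.xor 512 c)) = true ↔
        (T.pat ch (f c hc) && T.pat ch (Nat.xor x (f c hc))) = true) := by
      intro c hc
      have hcc : ∀ {y y' : G}, g * y * g⁻¹ = y' → (y ∈ H.omega ↔ y' ∈ H.omega) := fun {y y'} e => by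
        refine ⟨fun h => e ▸ H.omega_conj hg h, fun h => ?_⟩
        have := H.omega_conj (inv_mem hg) h
        rwa [← e, inv_inv, show g⁻¹ * (g * y * g⁻¹) * g = y by group] at this
      rw [Bool.and_eq_true, Bool.and_eq_true, ← hpat c hc, ← hpat _ (hflt c hc), ← hpat _ (hxor (by norm_num) hc),
        ← hpat _ (hxor hx (hflt c hc)), hcc (hf c hc), hcc (hfx c hc)]
    rw [hS', hS']
    symm
    refine Finset.card_bij (fun c hc => f c (Finset.mem_range.1 (Finset.mem_filter.1 hc).1)) ?_ ?_ ?_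
    · intro c hc
      obtain ⟨hc1, hc2⟩ := Finset.mem_filter.1 hc
      exact Finset.mem_filter.2 ⟨Finset.mem_range.2 (hflt _ _), (hiff c _).1 hc2⟩
    · intro a ha b hb e
      have h1 := hf a (Finset.mem_range.1 (Finset.mem_filter.1 ha).1)
      rw [e, ← hf b] at h1
      exact H.elG_inj (Finset.mem_range.1 (Finset.mem_filter.1 ha).1) (Finset.mem_range.1 (Finset.mem_filter.1 hb).1)
        (mul_left_cancel (mul_right_cancel h1))
    · intro c hc
      obtain ⟨hc1, hc2⟩ := Finset.mem_filter.1 hc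
      have hcl := Finset.mem_range.1 hc1
      obtain ⟨a, ha, hae⟩ := H.mem_AG.1 ((Subgroup.mem_normalizer_iff.1 (inv_mem hg) _).1 (H.mem_AG.2 ⟨c, hcl, rfl⟩))
      have hfa : f a ha = c := H.elG_inj (hflt a ha) hcl (by rw [← hf a ha, ← hae]; group)
      exact ⟨a, Finset.mem_filter.2 ⟨Finset.mem_range.2 ha, (hiff a ha).2 (hfa.symm ▸ hc2)⟩, hfa⟩
  have hdvd : T.size ch ∣ Case.glTen := by
    rw [← hsize, show Case.glTen = ∏ i : Fin 10, (2 ^ 10 - 2 ^ (i : ℕ)) from by decide +kernel]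
    exact H.ncard_dvd
  have h2 : 2 ≤ T.size ch := by
    obtain ⟨x, hx, hxd⟩ := H.exists_other hnwc
    rw [← hsize, ← Set.ncard_pair hxd]
    exact Set.ncard_le_ncard (Set.pair_subset hx H.d_mem_omega) (Set.toFinite _)
  have hp := H.ok.pat
  simp only [Case.okPat, Mathieu.allBelow_iff, Bool.or_eq_true] at hp
  rcases hp ch hch with (((h | h) | h) | h) | h
  · have := Nat.eq_of_beq_eq_true h; omega
  · rw [hsize]; exact Nat.eq_of_beq_eq_true h
  · exfalso
    -- the last element of the chain would be fused to `d` in the normaliser of the Sylow subgroup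
    have hfull := H.ok.full
    simp only [Case.okFull, Mathieu.allBelow_iff, Bool.or_eq_true] at hfull
    rcases hfull ch hch with h' | h'
    · rw [h] at h'; exact Bool.noConfusion h'
    obtain ⟨n₀, hn₀, hn₀r⟩ := H.transitive ((hpat 256 (by norm_num)).2 h')
    set r : ↥(Subgroup.centralizer ({d} : Set G)) := el10 q (selfC d) 256 with hr
    obtain ⟨hle, hmem, hcen⟩ := H.chain_spec
    rw [← hr] at hle hmem hcen
    have hsS : ∀ s ∈ H.Ssub, n₀⁻¹ * (s : G) * n₀ ∈ Subgroup.centralizer ({d} : Set G) := by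
      intro s hs
      refine Subgroup.mem_centralizer_singleton_iff.2 ?_
      have h3 : Commute (s : G) (n₀ * d * n₀⁻¹) := by
        rw [hn₀r]; exact congrArg Subtype.val (hcen s hs)
      calc n₀⁻¹ * (s : G) * n₀ * d = n₀⁻¹ * ((s : G) * (n₀ * d * n₀⁻¹)) * n₀ := by group
        _ = n₀⁻¹ * ((n₀ * d * n₀⁻¹) * (s : G)) * n₀ := by rw [h3.eq]
        _ = d * (n₀⁻¹ * (s : G) * n₀) := by group
    let f : ↥H.Ssub →* ↥(Subgroup.centralizer ({d} : Set G)) :=
      { toFun := fun s => ⟨n₀⁻¹ * (s : ↥(Subgroup.centralizer ({d} : Set G))) * n₀, hsS s s.2⟩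
        map_one' := Subtype.ext (by simp)
        map_mul' := fun y z => Subtype.ext (by
          show n₀⁻¹ * ((y.1 : G) * (z.1 : G)) * n₀ = n₀⁻¹ * (y.1 : G) * n₀ * (n₀⁻¹ * (z.1 : G) * n₀)
          group) }
    have hfi : Function.Injective f := fun y z he =>
      Subtype.ext (Subtype.ext (mul_left_cancel (mul_right_cancel (congrArg Subtype.val he))))
    haveI : Fact (Nat.Prime 2) := ⟨Nat.prime_two⟩
    obtain ⟨S', hS'⟩ := (IsPGroup.of_card (n := 16) (by
      rw [← Nat.card_congr (MonoidHom.ofInjective hfi).toEquiv, H.card_Ssub] : Nat.card f.range = 2 ^ 16)).exists_le_sylow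
    obtain ⟨c, hc⟩ := MulAction.exists_smul_eq (↥(Subgroup.centralizer ({d} : Set G))) S' H.sylow
    set n : G := (c : G) * n₀⁻¹ with hn
    -- `n` preserves the Sylow subgroup
    set SG := H.Ssub.map (Subgroup.centralizer ({d} : Set G)).subtype with hSG
    have hnS : SG.map (MulAut.conj n).toMonoidHom = SG := by
      refine Subgroup.eq_of_le_of_card_ge ?_ (by rw [Subgroup.card_map_of_injective (f := (MulAut.conj n).toMonoidHom) (MulAut.conj n).injective])
      rintro _ ⟨_, ⟨s, hs, rfl⟩, rfl⟩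
      refine ⟨c * f ⟨s, hs⟩ * c⁻¹, ?_, ?_⟩
      · have h5 : c * f ⟨s, hs⟩ * c⁻¹ ∈ (H.sylow : Subgroup ↥(Subgroup.centralizer ({d} : Set G))) := by
          rw [← hc, Sylow.coe_subgroup_smul]
          exact ⟨_, hS' ⟨_, rfl⟩, rfl⟩
        exact H.coe_sylow.le h5
      · show (c : G) * (n₀⁻¹ * (s : G) * n₀) * (c : G)⁻¹ = n * (s : G) * n⁻¹
        rw [hn]; group
    have hnA : H.AG.map (MulAut.conj n).toMonoidHom = H.AG := by
      have hle' : H.AG.map (MulAut.conj n).toMonoidHom ≤ SG :=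
        hnS ▸ Subgroup.map_mono (Subgroup.map_mono H.Asub_le)
      set B := (H.AG.map (MulAut.conj n).toMonoidHom).subgroupOf (Subgroup.centralizer ({d} : Set G)) with hB
      have hBC : H.AG.map (MulAut.conj n).toMonoidHom ≤ Subgroup.centralizer ({d} : Set G) :=
        hle'.trans (Subgroup.map_subtype_le _)
      have hBm : B.map (Subgroup.centralizer ({d} : Set G)).subtype = H.AG.map (MulAut.conj n).toMonoidHom :=
        Subgroup.map_subgroupOf_eq_of_le hBC
      have hBS : B ≤ H.Ssub := fun b hb => by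
        obtain ⟨s, hs, e⟩ := hle' hb
        exact Subtype.ext e ▸ hs
      have hBe : Cfsg.IsElementaryAbelian 2 B := by
        have he := CfsgLib.PLocal.isElementaryAbelian_map H.elementary_AG (MulAut.conj n).toMonoidHom
        exact ⟨⟨⟨fun a b => Subtype.ext (Subtype.ext
          (CfsgLib.PLocal.comm_of_isMulCommutative he.1 a.2 b.2))⟩⟩, fun a ha => Subtype.ext (he.2 _ ha)⟩
      have := (H.elementary_le hBS hBe).2 (by
        rw [← Subgroup.card_map_of_injective (Subgroup.subtype_injective _), hBm,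
          Subgroup.card_map_of_injective (MulAut.conj n).injective, H.card_AG]; norm_num)
      rw [← hBm, this]; rfl
    set Γ := ⁅⁅⁅⁅H.AG, SG⁆, SG⁆, SG⁆, SG⁆ with hΓ
    have hnΓ : Γ.map (MulAut.conj n).toMonoidHom = Γ := by
      simp only [hΓ, Subgroup.map_commutator, hnS, hnA]
    have hΓr : Γ = (⁅⁅⁅⁅H.Asub, H.Ssub⁆, H.Ssub⁆, H.Ssub⁆, H.Ssub⁆).map
        (Subgroup.centralizer ({d} : Set G)).subtype := by
      simp only [hΓ, hSG, Subgroup.map_commutator]; rfl
    have hrd : n * (r : G) * n⁻¹ = d := by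
      rw [show (r : G) = n₀ * d * n₀⁻¹ from hn₀r.symm, hn,
        show (c : G) * n₀⁻¹ * (n₀ * d * n₀⁻¹) * ((c : G) * n₀⁻¹)⁻¹ = (c : G) * d * (c : G)⁻¹ by group,
        (Subgroup.mem_centralizer_singleton_iff.1 c.2 : (c : G) * d = d * c), mul_inv_cancel_right]
    have hdΓ : d ∈ Γ := hrd ▸ hnΓ.le ⟨r, hΓr ▸ ⟨r, hmem, rfl⟩, rfl⟩
    obtain ⟨z, hz, hzd⟩ := hΓr ▸ hdΓ
    obtain ⟨k, hk⟩ := Subgroup.mem_zpowers_iff.1 (hle hz)
    rcases Int.even_or_odd' k with ⟨m, rfl | rfl⟩
    · rw [zpow_mul, show r ^ (2 : ℤ) = 1 by rw [zpow_two, hr, H.el10_sq], one_zpow] at hk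
      rw [← hk] at hzd
      exact H.ne (Subtype.ext hzd.symm)
    · rw [zpow_add, zpow_mul, show r ^ (2 : ℤ) = 1 by rw [zpow_two, hr, H.el10_sq], one_zpow, one_mul, zpow_one] at hk
      rw [← hk] at hzd
      have h5 : 256 = 512 := H.elG_inj (by norm_num) (by norm_num) (hzd.trans H.elG_d.symm)
      norm_num at h5
  · exfalso
    rw [Bool.not_eq_true', show Nat.mod Case.glTen (T.size ch) = 0 from Nat.mod_eq_zero_of_dvd hdvd] at h
    exact Bool.noConfusion h
  · exfalso
    simp only [List.any_eq_true, Bool.and_eq_true, Bool.not_eq_true'] at h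
    obtain ⟨l, -, hl, hne⟩ := h
    have hlt : T.reps.getD l 0 < 1024 := by
      have hf := H.ok.forest
      simp only [Case.okForest, Bool.and_eq_true, List.all_eq_true, Nat.blt_eq] at hf
      by_cases hl' : l < T.reps.length
      · rw [List.getD_eq_getElem _ _ hl']; exact hf.1.2 _ (List.getElem_mem _)
      · rw [List.getD_eq_default _ _ (not_lt.1 hl')]; norm_num
    rw [htrans _ hlt hl] at hne
    exact Bool.eq_false_iff.1 hne (Nat.beq_refl _)

end Setup

end CfsgLib.U62Pencil
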