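import Cfsg.Agent.U62Pencil.Tables
import Cfsg.Agent.USixMult.Table
import Cfsg.Agent.Mathieu.Chain

/-!
The checks for the double covers of `PSU₆(2)`: the elementary abelian group of order `2¹⁰`, the action of a
Sylow 2-subgroup on it, the orbits of the stabiliser of the plane, and the possible fusion patterns.
-/

set_option autoImplicit false
set_option maxRecDepth 100000

namespace CfsgLib.U62Pencil

open CfsgLib.USixMult (weq state code img vsmul hc tvc)

/-- A matrix given by the images of the bits, applied to a code. -/
def ap : List ℕ → ℕ → ℕ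
  | [], _ => 0
  | m :: M, c => Nat.xor (cond (Nat.beq (Nat.land c 1) 1) m 0) (ap M (Nat.div c 2))

/-- The members of a list at the set bits. -/
def sel : List ℕ → ℕ → List ℕ
  | [], _ => []
  | m :: M, c => cond (Nat.beq (Nat.land c 1) 1) (m :: sel M (Nat.div c 2)) (sel M (Nat.div c 2))

/-- The word of a code of the preimage. -/
def wa (c : ℕ) : List ℕ := sel al c

/-- The word of a representative. -/
def wu (u : ℕ) : List ℕ := sel ul u

/-- The basis of the ten bits. -/
def bits : List ℕ := [1, 2, 4, 8, 16, 32, 64, 128, 256, 512]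

/-- The six matrices of the representatives' generators applied as by a representative. -/
def apU (mat : List (List ℕ)) (u x : ℕ) : ℕ :=
  ([0, 1, 2, 3, 4, 5].filter fun j => u.testBit j).foldr (fun j z => ap (mat.getD j []) z) x

/-- The members of a list of vectors spanned. -/
def spanL : List ℕ → List ℕ
  | [] => [0]
  | b :: B => let S := spanL B; S ++ S.map (Nat.xor b)

/-- Membership for natural numbers. -/
def mem (x : ℕ) (l : List ℕ) : Bool := l.any fun y => Nat.beq y x

/-- The images of the eleven bits in a double cover: `z` is the code of the pair of central elements. -/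
def prj (k : ℕ) : List ℕ :=
  [1, 2, 4, 8, 16, 32, 64, 128, 256] ++ ([[0, 512], [512, 0], [512, 512]].getD k [])

/-- The tables of a case. -/
structure Case where
  k : ℕ
  mat : List (List ℕ)
  act : ℕ
  forest : ℕ
  reps : List ℕ
  chain : List (List ℕ)
  wit : ℕ × List ℕ

namespace Case

variable (T : Case)

/-- The matrix of a representative. -/
def actM (u : ℕ) : List ℕ :=
  (List.range 10).map fun i => Nat.land (Nat.shiftRight T.act (Nat.mul 10 (Nat.add (Nat.mul 10 u) i))) 1023

/-- The orbit number. -/
def lab (c : ℕ) : ℕ := Nat.land (Nat.shiftRight T.forest (Nat.mul 17 c)) 7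

/-- The parent. -/
def par (c : ℕ) : ℕ := Nat.land (Nat.shiftRight T.forest (Nat.add (Nat.mul 17 c) 3)) 1023

/-- The generator leading from the parent, or `9` at a representative. -/
def gen (c : ℕ) : ℕ := Nat.land (Nat.shiftRight T.forest (Nat.add (Nat.mul 17 c) 13)) 15

/-- A step towards the representative. -/
def stp (c : ℕ) : ℕ := cond (Nat.beq (T.gen c) 9) c (T.par c)

/-- The matrices are those of the fourfold cover, projected, and fix the centre. -/
def okMat : Bool :=
  Mathieu.allBelow 9 fun j =>
    Nat.beq ((T.mat.getD j []).length) 10 &&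
    (Mathieu.allBelow 9 fun i =>
      Nat.beq (ap (prj T.k) ((m11.getD j []).getD i 0)) ((T.mat.getD j []).getD i 0)) &&
    Nat.beq ((T.mat.getD j []).getD 9 0) 512 &&
    (T.mat.getD j []).all fun m => Nat.blt m 1024

/-- The matrices of the representatives, which are distinct. -/
def okAct : Bool :=
  (Mathieu.allBelow 64 fun u => Mathieu.allBelow 10 fun i =>
      Nat.beq ((T.actM u).getD i 0) (apU T.mat u (bits.getD i 0)) &&
        Nat.blt ((T.actM u).getD i 0) 1024) &&
  (Mathieu.allBelow 64 fun u => Mathieu.allBelow 64 fun v =>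
    Nat.beq u v || !((List.range 10).all fun i => Nat.beq ((T.actM u).getD i 0) ((T.actM v).getD i 0)))

/-- The matrix of a representative is an involution or the identity. -/
def isInv (u : ℕ) : Bool :=
  let M := T.actM u
  (List.range 10).all fun i => Nat.beq (ap M (M.getD i 0)) (bits.getD i 0)

/-- The matrices of two representatives commute. -/
def isCom (u v : ℕ) : Bool :=
  let M := T.actM u
  let N := T.actM v
  (List.range 10).all fun i => Nat.beq (ap M (N.getD i 0)) (ap N (M.getD i 0))

/-- The number of codes fixed by a list of representatives. -/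
def fixCount (l : List ℕ) : ℕ :=
  let Ms := l.map T.actM
  (List.range 1024).countP fun x => Ms.all fun M => Nat.beq (ap M x) x

/-- Commuting involutions lie in one of two elementary groups, and fix few codes. -/
def okFix : Bool :=
  (Mathieu.allBelow 64 fun u => Mathieu.allBelow 64 fun v =>
    !(T.isInv u && T.isInv v && T.isCom u v) ||
      (Nat.beq (Nat.land u 12) 0 && Nat.beq (Nat.land v 12) 0) ||
      (Nat.beq (Nat.land u 3) 0 && Nat.beq (Nat.land v 3) 0)) &&
  (Mathieu.allBelow 64 fun u => Nat.beq u 0 || !T.isInv u || Nat.ble (T.fixCount [u]) 64) &&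
  Nat.ble (T.fixCount ((List.range 64).filter fun u => Nat.beq (Nat.land u 12) 0)) 32 &&
  Nat.ble (T.fixCount ((List.range 64).filter fun u => Nat.beq (Nat.land u 3) 0)) 32

/-- The chain of iterated commutators ends in one element which is not the centre. -/
def okChain : Bool :=
  Nat.beq T.chain.length 5 && (List.range 10).all (fun i => mem (bits.getD i 0) (T.chain.getD 0 [])) &&
  (T.chain.getD 4 []).all (fun b => Nat.beq b 256) &&
  (T.chain.all fun B => B.all fun b => Nat.blt b 1024) &&
  (Mathieu.allBelow 4 fun i =>
    let S := spanL (T.chain.getD (i + 1) [])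
    Mathieu.allBelow 64 fun u =>
      let M := T.actM u
      (T.chain.getD i []).all fun b => mem (Nat.xor b (ap M b)) S) &&
  Nat.blt T.wit.1 1024 && Nat.beq T.wit.2.length 4 && T.wit.2.all (fun u => Nat.blt u 64) &&
  Nat.beq (T.wit.2.foldl (fun x u => Nat.xor x (ap (T.actM u) x)) T.wit.1) 256 &&
  Mathieu.allBelow 64 fun u => Nat.beq (ap (T.actM u) 256) 256

/-- The forest. -/
def okForest : Bool :=
  Nat.beq T.reps.length 7 && Nat.beq (T.reps.getD 0 1) 0 && Nat.beq (T.reps.getD 1 0) 512 &&
  (T.reps.all fun c => Nat.blt c 1024) &&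
  Mathieu.allBelow 1024 fun c =>
    Nat.blt (T.lab c) 7 &&
    (Nat.beq (T.gen c) 9 ||
      (Nat.blt (T.gen c) 9 && Nat.beq (ap (T.mat.getD (T.gen c) []) (T.par c)) c)) &&
    Nat.beq (T.stp (T.stp (T.stp (T.stp (T.stp (T.stp (T.stp (T.stp c)))))))) (T.reps.getD (T.lab c) 0)

/-- The set of a pattern. -/
def pat (ch c : ℕ) : Bool :=
  let l := T.lab c
  Nat.beq l 1 || (Nat.ble 2 l && Nat.testBit ch (Nat.sub l 2))

/-- The size of a pattern. -/
def size (ch : ℕ) : ℕ := (List.range 1024).countP fun c => T.pat ch c

/-- The number of members which a member translates to members. -/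
def trans (ch x : ℕ) : ℕ := (List.range 1024).countP fun c => T.pat ch c && T.pat ch (Nat.xor x c)

/-- The order of `GL(10,2)`. -/
def glTen : ℕ := ((List.range 10).map fun i => 2 ^ 10 - 2 ^ i).prod

/-- Only patterns of size 1, 22 and 1023 are possible. -/
def okPat : Bool :=
  Mathieu.allBelow 32 fun ch =>
    let n := T.size ch
    Nat.beq n 1 || Nat.beq n 22 || Nat.beq n 1023 || !Nat.beq (Nat.mod glTen n) 0 ||
      (let c := T.trans ch 512
       [2, 3, 4, 5, 6].any fun l => T.pat ch (T.reps.getD l 0) && !Nat.beq (T.trans ch (T.reps.getD l 0)) c)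

/-- The codes in a pattern of 1023 members. -/
def okFull : Bool :=
  Mathieu.allBelow 32 fun ch => !Nat.beq (T.size ch) 1023 || T.pat ch 256

end Case

/-- The three cases. -/
def case1 : Case := ⟨0, mat1, act1, forest1, reps1, chain1, wit1⟩

/-- The second case. -/
def case2 : Case := ⟨1, mat2, act2, forest2, reps2, chain2, wit2⟩

/-- The third case. -/
def case3 : Case := ⟨2, mat3, act3, forest3, reps3, chain3, wit3⟩

/-- The checks of a case. -/
structure Case.Ok (T : Case) : Prop where
  mat : T.okMat = true
  act : T.okAct = true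
  fix' : T.okFix = true
  chain : T.okChain = true
  forest : T.okForest = true
  pat : T.okPat = true
  full : T.okFull = true

/-- The group of order `2¹¹` in the fourfold cover is elementary abelian. -/
def okElem : Bool :=
  al.all fun s => weq [s, s] [] && al.all fun t => weq [s, t] [t, s]

/-- The nine elements act by their matrices. -/
def okConj : Bool :=
  Mathieu.allBelow 9 fun j => Mathieu.allBelow 11 fun i =>
    let c := (m11.getD j []).getD i 0
    Nat.blt c 2048 && weq [gl.getD j 0, al.getD i 0] (wa c ++ [gl.getD j 0])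

/-- The generators in normal form. -/
def okNormal : Bool :=
  (Mathieu.allBelow 6 fun i => Mathieu.allBelow 64 fun u =>
    let r := (mulTab.getD i []).getD u 0
    Nat.blt r 131072 && weq (ul.getD i 0 :: wu u) (wa (Nat.div r 64) ++ wu (Nat.mod r 64))) &&
  (Mathieu.allBelow 17 fun i =>
    let r := yTab.getD i 0
    Nat.blt r 131072 && weq [USixMult.xi2.getD i 99] (wa (Nat.div r 64) ++ wu (Nat.mod r 64))) &&
  (Mathieu.allBelow 11 fun i => (List.range 17).any fun j => Nat.beq (USixMult.xi2.getD j 99) (al.getD i 0)) &&
  (Mathieu.allBelow 6 fun i => (List.range 17).any fun j => Nat.beq (USixMult.xi2.getD j 99) (ul.getD i 0))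

/-- Only the identity among the codes is scalar. -/
def okScalar : Bool :=
  Mathieu.allBelow 512 fun c => Nat.beq c 0 ||
    [1, 2, 3].all fun a =>
      !((List.range 6).all fun i => Nat.beq ((state (wa c)).1.getD i 0) (vsmul a (USixMult.bas i)))

/-- The plane. -/
def okPlane : Bool :=
  Nat.beq plane.length 64 &&
  (plane.all fun v => Nat.blt v 4096 && Nat.beq (hc v v) 0 && [1, 2, 3].all fun a => mem (vsmul a v) plane) &&
  ((List.range 17).all fun i => plane.all fun v => mem (img (code (USixMult.xi2.getD i 99)) v) plane) &&
  (Mathieu.allBelow 4096 fun c => !Nat.beq (hc c c) 0 || mem c plane ||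
    plane.any fun v => !mem (tvc c v) plane) &&
  (Mathieu.allBelow 64 fun j =>
    let e := planeTv.getD j 0
    Nat.blt e 512 && (List.range 6).all fun i =>
      Nat.beq ((state (wa e)).1.getD i 0) (tvc (plane.getD j 0) (USixMult.bas i)))

end CfsgLib.U62Pencil
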