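import Cfsg.Agent.U62Pencil.Checks

/-!
The checks hold.
-/

set_option autoImplicit false
set_option maxRecDepth 100000

namespace CfsgLib.U62Pencil

theorem okElem_true : okElem = true := by decide +kernel

theorem okConj_true : okConj = true := by decide +kernel

theorem okNormal_true : okNormal = true := by decide +kernel

theorem okScalar_true : okScalar = true := by decide +kernel

theorem okPlane_true : okPlane = true := by decide +kernel

theorem case1_ok : case1.Ok :=
  ⟨by decide +kernel, by decide +kernel, by decide +kernel, by decide +kernel, by decide +kernel,
    by decide +kernel, by decide +kernel⟩

theorem case2_ok : case2.Ok :=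
  ⟨by decide +kernel, by decide +kernel, by decide +kernel, by decide +kernel, by decide +kernel,
    by decide +kernel, by decide +kernel⟩

theorem case3_ok : case3.Ok :=
  ⟨by decide +kernel, by decide +kernel, by decide +kernel, by decide +kernel, by decide +kernel,
    by decide +kernel, by decide +kernel⟩

end CfsgLib.U62Pencil
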