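import Cfsg.Agent.U62Pencil.Decide
import Cfsg.Agent.USixMult.Mult
import Cfsg.Agent.PLocal.Thompson

/-!
A double cover of `PSU₆(2)` as an image of the fourfold cover: the elementary abelian group of order `2¹⁰`
in a Sylow 2-subgroup is the unique one of this order there, and the stabiliser of the plane acts on it by
the tables.
-/

set_option autoImplicit false
set_option linter.style.haveILetI false
set_option linter.unusedSectionVars false
set_option maxRecDepth 100000

namespace CfsgLib.U62Pencil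

open CfsgLib.RepBounds.Unit CfsgLib.USixMult
open CfsgLib.Schur.Pc (ev tailSubgroup)

section pr

variable {P : Type*} [Group P]

/-- The product of the members at the set bits. -/
def pr : List P → ℕ → P
  | [], _ => 1
  | g :: G, c => (cond (Nat.beq (Nat.land c 1) 1) g 1) * pr G (Nat.div c 2)

theorem pr_zero : ∀ G : List P, pr G 0 = 1
  | [] => rfl
  | g :: G => by
    rw [pr, show Nat.beq (Nat.land 0 1) 1 = false from rfl, cond_false, one_mul,
      show Nat.div 0 2 = 0 from rfl, pr_zero G]

theorem beq_one (c : ℕ) : Nat.beq (Nat.land c 1) 1 = c.testBit 0 := by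
  rw [Bool.eq_iff_iff]
  show Nat.beq (c &&& 1) 1 = true ↔ _
  rw [Nat.beq_eq, Nat.and_one_is_mod, Nat.testBit_zero, decide_eq_true_eq]

theorem xor_div (x y : ℕ) : Nat.div (Nat.xor x y) 2 = Nat.xor (Nat.div x 2) (Nat.div y 2) := by
  show (x ^^^ y) / 2 = (x / 2) ^^^ (y / 2)
  rw [Nat.xor_div_two]

theorem commute_pr {g : P} : ∀ {G : List P}, (∀ h ∈ G, Commute g h) → ∀ c, Commute g (pr G c)
  | [], _, _ => Commute.one_right g
  | h :: G, hc, c => by
    refine Commute.mul_right ?_ (commute_pr (fun k hk => hc k (List.mem_cons_of_mem _ hk)) _)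
    cases Nat.beq (Nat.land c 1) 1
    · exact Commute.one_right g
    · exact hc h List.mem_cons_self

theorem pr_mul : ∀ {G : List P}, (∀ g ∈ G, ∀ h ∈ G, Commute g h) → (∀ g ∈ G, g * g = 1) →
    ∀ x y, pr G x * pr G y = pr G (Nat.xor x y)
  | [], _, _, _, _ => one_mul 1
  | g :: G, hc, h2, x, y => by
    have ih := pr_mul (G := G) (fun a ha b hb => hc a (List.mem_cons_of_mem _ ha) b (List.mem_cons_of_mem _ hb))
      (fun a ha => h2 a (List.mem_cons_of_mem _ ha)) (Nat.div x 2) (Nat.div y 2)
    have hg : ∀ c, Commute g (pr G c) := commute_pr fun k hk => hc g List.mem_cons_self k (List.mem_cons_of_mem _ hk)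
    have hg2 := h2 g List.mem_cons_self
    simp only [pr, beq_one, xor_div]
    rw [show (Nat.xor x y).testBit 0 = (x.testBit 0 ^^ y.testBit 0) from Nat.testBit_xor x y 0]
    cases x.testBit 0 <;> cases y.testBit 0 <;> simp only [cond_true, cond_false, Bool.false_xor,
      Bool.true_xor, Bool.not_false, Bool.not_true, one_mul]
    · exact ih
    · rw [← mul_assoc, ← (hg _).eq, mul_assoc, ih]
    · rw [mul_assoc, ih]
    · rw [mul_assoc, ← mul_assoc (pr G _) g, ← (hg _).eq, ← mul_assoc, ← mul_assoc g g, hg2, one_mul, ih]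

theorem pr_ap {G : List P} (hc : ∀ g ∈ G, ∀ h ∈ G, Commute g h) (h2 : ∀ g ∈ G, g * g = 1) :
    ∀ (M : List ℕ) (c : ℕ), pr G (ap M c) = pr (M.map (pr G)) c
  | [], _ => pr_zero G
  | m :: M, c => by
    simp only [List.map_cons, ap, pr]
    rw [← pr_mul hc h2, pr_ap hc h2 M]
    cases Nat.beq (Nat.land c 1) 1 <;> simp [pr_zero]

theorem conj_pr (g : P) : ∀ (G : List P) (c : ℕ), g * pr G c * g⁻¹ = pr (G.map fun h => g * h * g⁻¹) c
  | [], _ => by simp [pr]
  | h :: G, c => by
    simp only [List.map_cons, pr]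
    rw [← conj_pr g G]
    cases Nat.beq (Nat.land c 1) 1 <;> simp only [cond_true, cond_false] <;> group

theorem ev_sel {Q : Type*} [Group Q] (q : Q →* P) (e : ℕ → Q) : ∀ (L : List ℕ) (c : ℕ),
    q (ev e (sel L c)) = pr (L.map fun s => q (e s)) c
  | [], _ => map_one q
  | s :: L, c => by
    simp only [sel, List.map_cons, pr]
    cases Nat.beq (Nat.land c 1) 1
    · simp only [cond_false, one_mul]; exact ev_sel q e L _
    · simp only [cond_true]
      rw [Schur.Pc.ev_cons, map_mul, ev_sel q e L]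

theorem ap_lt : ∀ {M : List ℕ}, (∀ m ∈ M, m < 1024) → ∀ c, ap M c < 1024
  | [], _, _ => by norm_num [ap]
  | m :: M, h, c => by
    refine Nat.xor_lt_two_pow (n := 10) ?_ (ap_lt (fun k hk => h k (List.mem_cons_of_mem _ hk)) _)
    cases Nat.beq (Nat.land c 1) 1
    · norm_num
    · exact h m List.mem_cons_self

theorem bits_eq : ∀ i < 10, bits.getD i 0 = 2 ^ i := by decide +kernel

theorem two_pow_succ (i : ℕ) : Nat.beq (Nat.land (2 ^ (i + 1)) 1) 1 = false ∧
    Nat.div (2 ^ (i + 1)) 2 = 2 ^ i := by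
  refine ⟨?_, ?_⟩
  · rw [beq_one, Nat.testBit_two_pow]; simp
  · show 2 ^ (i + 1) / 2 = 2 ^ i
    rw [pow_succ, Nat.mul_div_cancel _ two_pos]

theorem pr_two_pow : ∀ (G : List P) {i : ℕ}, i < G.length → pr G (2 ^ i) = G.getD i 1
  | [], _, h => absurd h (Nat.not_lt_zero _)
  | g :: G, 0, _ => by
    rw [pr, pow_zero, show Nat.beq (Nat.land 1 1) 1 = true from rfl, cond_true,
      show Nat.div 1 2 = 0 from rfl, pr_zero, mul_one, List.getD_cons_zero]
  | g :: G, i + 1, h => by
    rw [pr, (two_pow_succ i).1, (two_pow_succ i).2, cond_false, one_mul, List.getD_cons_succ]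
    exact pr_two_pow G (Nat.lt_of_succ_lt_succ h)

theorem ap_zero : ∀ M : List ℕ, ap M 0 = 0
  | [] => rfl
  | m :: M => by
    rw [ap, show Nat.beq (Nat.land 0 1) 1 = false from rfl, cond_false,
      show Nat.div 0 2 = 0 from rfl, ap_zero M]
    rfl

theorem ap_two_pow : ∀ (M : List ℕ) {i : ℕ}, i < M.length → ap M (2 ^ i) = M.getD i 0
  | [], _, h => absurd h (Nat.not_lt_zero _)
  | m :: M, 0, _ => by
    rw [ap, pow_zero, show Nat.beq (Nat.land 1 1) 1 = true from rfl, cond_true,
      show Nat.div 1 2 = 0 from rfl, ap_zero, List.getD_cons_zero]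
    exact Nat.xor_zero m
  | m :: M, i + 1, h => by
    rw [ap, (two_pow_succ i).1, (two_pow_succ i).2, cond_false, List.getD_cons_succ,
      show ∀ z, Nat.xor 0 z = z from fun z => Nat.zero_xor z]
    exact ap_two_pow M (Nat.lt_of_succ_lt_succ h)

end pr

universe u v

variable {F : Type v} [Field F] [Fintype F] (X : Ctx F) {P : Type u} [Group P]

/-- A double cover with central involution `d`, as an image of the fourfold cover. -/
structure Setup (d : P) (q : X.cover →* P) (T : Case) : Prop where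
  ok : T.Ok
  lt : T.k < 3
  surj : Function.Surjective q
  central : ∀ g : P, Commute d g
  sq : d * d = 1
  ne : d ≠ 1
  ker : ∀ c, (q c = 1 ∨ q c = d) ↔ X.nat c ∈ Subgroup.center (suG X.C (Fin 6))
  z15 : q (X.el (al.getD 9 0)) = cond (Nat.beq ((prj T.k).getD 9 0) 512) d 1
  z16 : q (X.el (al.getD 10 0)) = cond (Nat.beq ((prj T.k).getD 10 0) 512) d 1
  card : Nat.card P = 18393661440

variable {X} {d : P} {q : X.cover →* P} {T : Case} (H : Setup X d q T)

/-- The ten generators of the elementary group. -/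
noncomputable def gens (q : X.cover →* P) (d : P) : List P :=
  (al.take 9).map (fun s => q (X.el s)) ++ [d]

/-- The element of a code. -/
noncomputable def el10 (q : X.cover →* P) (d : P) (c : ℕ) : P := pr (gens q d) c

/-- The element of a representative. -/
noncomputable def rp (q : X.cover →* P) (u : ℕ) : P := q (ev X.el (wu u))

namespace Setup

include H

theorem gens_spec : (∀ g ∈ gens q d, ∀ h ∈ gens q d, Commute g h) ∧ ∀ g ∈ gens q d, g * g = 1 := by
  have h := okElem_true
  simp only [okElem, List.all_eq_true, Bool.and_eq_true] at h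
  have hm : ∀ g ∈ gens q d, g = d ∨ ∃ s ∈ al, g = q (X.el s) := by
    intro g hg
    rcases List.mem_append.1 hg with hg | hg
    · obtain ⟨s, hs, rfl⟩ := List.mem_map.1 hg
      exact Or.inr ⟨s, List.mem_of_mem_take hs, rfl⟩
    · exact Or.inl (List.mem_singleton.1 hg)
  constructor
  · intro g hg g' hg'
    rcases hm g hg with rfl | ⟨s, hs, rfl⟩
    · exact H.central g'
    rcases hm g' hg' with rfl | ⟨t, ht, rfl⟩
    · exact (H.central _).symm
    have e := X.ev_eq_of_weq ((h s hs).2 t ht)
    simp only [Schur.Pc.ev_cons, Schur.Pc.ev_nil, mul_one] at e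
    exact (show Commute (X.el s) (X.el t) from e).map q
  · intro g hg
    rcases hm g hg with rfl | ⟨s, hs, rfl⟩
    · exact H.sq
    have e := X.ev_eq_of_weq (h s hs).1
    simp only [Schur.Pc.ev_cons, Schur.Pc.ev_nil, mul_one] at e
    rw [← map_mul, e, map_one]

theorem el10_mul (x y : ℕ) : el10 q d x * el10 q d y = el10 q d (Nat.xor x y) :=
  pr_mul H.gens_spec.1 H.gens_spec.2 x y

theorem el10_zero : el10 q d 0 = 1 := pr_zero _

theorem el10_sq (x : ℕ) : el10 q d x * el10 q d x = 1 := by
  rw [H.el10_mul, show Nat.xor x x = 0 from Nat.xor_self x, H.el10_zero]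

theorem el10_inv (x : ℕ) : (el10 q d x)⁻¹ = el10 q d x := inv_eq_of_mul_eq_one_right (H.el10_sq x)

theorem el10_comm (x y : ℕ) : Commute (el10 q d x) (el10 q d y) := by
  show el10 q d x * el10 q d y = el10 q d y * el10 q d x
  rw [H.el10_mul, H.el10_mul]
  exact congrArg _ (Nat.xor_comm x y)

theorem el10_bit : ∀ i < 10, el10 q d (bits.getD i 0) = (gens q d).getD i 1 := by
  intro i hi
  rw [el10, bits_eq i hi]
  exact pr_two_pow _ (by simp [gens, al]; omega)

theorem el10_d : el10 q d 512 = d := by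
  have h := H.el10_bit 9 (by norm_num)
  simpa [bits, gens, al] using h

/-- An element conjugating the generators by a matrix conjugates every code by it. -/
theorem conj_el10 {g : P} {M : List ℕ} (hlen : M.length = 10)
    (h : ∀ i < 10, g * (gens q d).getD i 1 * g⁻¹ = el10 q d (M.getD i 0)) (x : ℕ) :
    g * el10 q d x * g⁻¹ = el10 q d (ap M x) := by
  have hl : (gens q d).length = 10 := by simp [gens, al]
  rw [el10, conj_pr, el10, pr_ap H.gens_spec.1 H.gens_spec.2]
  congr 1
  refine List.ext_getElem (by simp [hl, hlen]) fun i h1 h2 => ?_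
  rw [List.getElem_map, List.getElem_map]
  have := h i (by simpa [hl] using h1)
  rwa [List.getD_eq_getElem _ _ (by simpa using h1), List.getD_eq_getElem _ _ (by simpa using h2)] at this

theorem q_wa (c : ℕ) : q (ev X.el (wa c)) = el10 q d (ap (prj T.k) c) := by
  rw [wa, ev_sel, el10, pr_ap H.gens_spec.1 H.gens_spec.2]
  congr 1
  have hb := H.el10_bit
  have hk := H.lt
  have h15 := H.z15
  have h16 := H.z16
  have hd := H.el10_d
  have h0 := H.el10_zero
  unfold el10 at hb hd h0
  refine List.ext_getElem (by rcases (show T.k = 0 ∨ T.k = 1 ∨ T.k = 2 by omega) with e | e | e <;>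
    simp [e, al, prj]) fun i h1 h2 => ?_
  rw [List.getElem_map, List.getElem_map, ← List.getD_eq_getElem (d := 0),
    ← List.getD_eq_getElem (d := 0)]
  have hi : i < 11 := by simpa [al] using h1
  rcases (show i < 9 ∨ i = 9 ∨ i = 10 by omega) with hi | rfl | rfl
  · have e : (prj T.k).getD i 0 = bits.getD i 0 := by
      rcases (show T.k = 0 ∨ T.k = 1 ∨ T.k = 2 by omega) with e | e | e <;> rw [e] <;>
        interval_cases i <;> rfl
    rw [e, hb i (by omega)]
    interval_cases i <;> simp [gens, al]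
  all_goals
    rcases (show T.k = 0 ∨ T.k = 1 ∨ T.k = 2 by omega) with e | e | e <;>
      (rw [e] at h15 h16 ⊢; simp [prj, show Nat.beq 0 512 = false from rfl] at h15 h16 ⊢; simp_all)

/-- The nine elements of the stabiliser act by their matrices. -/
theorem conj_gl {j : ℕ} (hj : j < 9) (x : ℕ) :
    q (X.el (gl.getD j 0)) * el10 q d x * (q (X.el (gl.getD j 0)))⁻¹ =
      el10 q d (ap (T.mat.getD j []) x) := by
  have hm := H.ok.mat
  simp only [Case.okMat, Mathieu.allBelow_iff, Bool.and_eq_true, List.all_eq_true] at hm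
  obtain ⟨⟨⟨hlen, hcol⟩, hlast⟩, -⟩ := hm j hj
  refine H.conj_el10 (Nat.eq_of_beq_eq_true hlen) (fun i hi => ?_) x
  rcases (show i < 9 ∨ i = 9 by omega) with hi | rfl
  · have hc := okConj_true
    simp only [okConj, Mathieu.allBelow_iff, Bool.and_eq_true] at hc
    have e := congrArg q (X.ev_eq_of_weq (hc j hj i (by omega)).2)
    rw [Schur.Pc.ev_append, map_mul, H.q_wa, Nat.eq_of_beq_eq_true (hcol i hi)] at e
    simp only [Schur.Pc.ev_cons, Schur.Pc.ev_nil, mul_one, map_mul] at e
    rw [← mul_inv_eq_iff_eq_mul.2 e]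
    congr 2
    interval_cases i <;> simp [gens, al]
  · rw [Nat.eq_of_beq_eq_true hlast, H.el10_d, show (gens q d).getD 9 1 = d by simp [gens, al],
      ← (H.central _).eq, mul_inv_cancel_right]

theorem actM_spec {u : ℕ} (hu : u < 64) :
    (∀ i < 10, (T.actM u).getD i 0 = apU T.mat u (bits.getD i 0)) ∧ ∀ m ∈ T.actM u, m < 1024 := by
  have h := H.ok.act
  simp only [Case.okAct, Bool.and_eq_true, Mathieu.allBelow_iff] at h
  refine ⟨fun i hi => Nat.eq_of_beq_eq_true (h.1 u hu i hi).1, fun m hm => ?_⟩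
  obtain ⟨i, hi, rfl⟩ := List.getElem_of_mem hm
  have := (h.1 u hu i (by simpa [Case.actM] using hi)).2
  rwa [List.getD_eq_getElem _ _ hi, Nat.blt_eq] at this

theorem actM_lt {u : ℕ} (hu : u < 64) (x : ℕ) : ap (T.actM u) x < 1024 :=
  ap_lt (H.actM_spec hu).2 x

/-- A representative acts by its matrix. -/
theorem conj_rp {u : ℕ} (hu : u < 64) (x : ℕ) :
    rp q u * el10 q d x * (rp q u)⁻¹ = el10 q d (ap (T.actM u) x) := by
  have key : ∀ (J : List ℕ), (∀ j ∈ J, j < 6) → ∀ y,
      q (ev X.el (J.map fun j => gl.getD j 0)) * el10 q d y * (q (ev X.el (J.map fun j => gl.getD j 0)))⁻¹ =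
        el10 q d (J.foldr (fun j z => ap (T.mat.getD j []) z) y) := by
    intro J
    induction J with
    | nil => intro _ y; simp
    | cons j J ih =>
      intro hJ y
      simp only [List.map_cons, Schur.Pc.ev_cons, map_mul, List.foldr_cons]
      rw [← H.conj_gl (by have := hJ j List.mem_cons_self; omega), ← ih (fun k hk => hJ k (List.mem_cons_of_mem _ hk))]
      group
  have hw : ∀ u < 64, wu u = ([0, 1, 2, 3, 4, 5].filter fun j => u.testBit j).map fun j => gl.getD j 0 := by
    decide +kernel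
  refine H.conj_el10 (by simp [Case.actM]) (fun i hi => ?_) x
  rw [← H.el10_bit i hi, rp, hw u hu, key _ (fun j hj => ?_), (H.actM_spec hu).1 i hi, apU]
  have := (List.mem_filter.1 hj).1
  simp only [List.mem_cons, List.not_mem_nil, or_false] at this
  omega

theorem eq_zero_of_el10 {x : ℕ} (hx : x < 1024) (h : el10 q d x = 1) : x = 0 := by
  have hsplit : ∀ x < 1024, x = Nat.xor (x % 512) (512 * (x / 512)) ∧ (x / 512 = 0 ∨ x / 512 = 1) := by
    decide +kernel
  obtain ⟨hxe, hb⟩ := hsplit x hx
  set l := x % 512 with hl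
  have hll : l < 512 := Nat.mod_lt _ (by norm_num)
  have hap : ∀ k < 3, ∀ c < 512, ap (prj k) c = c := by decide +kernel
  rw [hxe, ← H.el10_mul, ← hap T.k H.lt l hll, ← H.q_wa] at h
  have hq : q (ev X.el (wa l)) = 1 ∨ q (ev X.el (wa l)) = d := by
    rcases hb with e | e <;> rw [e] at h
    · rw [mul_zero, H.el10_zero, mul_one] at h; exact Or.inl h
    · rw [mul_one, H.el10_d, mul_eq_one_iff_eq_inv, inv_eq_of_mul_eq_one_right H.sq] at h; exact Or.inr h
  have hl0 : l = 0 := by
    by_contra hne
    obtain ⟨a, ha0, ha⟩ := X.exists_scalar ((H.ker _).1 hq)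
    obtain ⟨a, ha4, rfl⟩ := X.fv_surjective a
    have hs := okScalar_true
    simp only [okScalar, Mathieu.allBelow_iff, Bool.or_eq_true] at hs
    rcases hs l hll with h1 | h1
    · exact hne (Nat.eq_of_beq_eq_true h1)
    simp only [List.all_eq_true] at h1
    have ha1 : a ≠ 0 := fun e => ha0 (by rw [e, X.fv_zero])
    refine Bool.eq_false_iff.1 (Bool.not_eq_true' _ ▸ h1 a (by simp; omega)) ?_
    rw [List.all_eq_true]
    intro i hi
    have hi6 := List.mem_range.1 hi
    have e := ha (X.dec (bas i))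
    rw [X.nat_ev, (X.app_wmap _ (bas_lt hi6)).1, ← X.dec_vsmul ha4 (bas_lt hi6)] at e
    rw [state_getD _ hi6, X.dec_injective (X.app_wmap _ (bas_lt hi6)).2 (vsmul_spec ha4 (bas_lt hi6)).1 e]
    exact Nat.beq_refl _
  rcases hb with e | e
  · omega
  · exfalso
    rw [e, hl0, show wa 0 = [] from rfl, Schur.Pc.ev_nil, map_one, one_mul, mul_one, H.el10_d] at h
    exact H.ne h

theorem el10_inj {x y : ℕ} (hx : x < 1024) (hy : y < 1024) (h : el10 q d x = el10 q d y) : x = y := by
  refine Nat.xor_eq_zero_iff.1 (H.eq_zero_of_el10 (Nat.xor_lt_two_pow (n := 10) hx hy) ?_)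
  show el10 q d (Nat.xor x y) = 1
  rw [← H.el10_mul, h, H.el10_sq]

theorem rp_inj {u v : ℕ} (hu : u < 64) (hv : v < 64) {x y : ℕ}
    (h : el10 q d x * rp q u = el10 q d y * rp q v) : u = v ∧ el10 q d x = el10 q d y := by
  have e : u = v := by
    have hh := H.ok.act
    simp only [Case.okAct, Bool.and_eq_true, Mathieu.allBelow_iff, Bool.or_eq_true] at hh
    rcases hh.2 u hu v hv with e | e
    · exact Nat.eq_of_beq_eq_true e
    exfalso
    refine Bool.eq_false_iff.1 (Bool.not_eq_true' _ ▸ e) ?_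
    rw [List.all_eq_true]
    intro i hi
    have hi' := List.mem_range.1 hi
    have hlt : ∀ w, w < 64 → (T.actM w).getD i 0 < 1024 := fun w hw => by
      rw [List.getD_eq_getElem _ _ (by simpa [Case.actM] using hi')]
      exact (H.actM_spec hw).2 _ (List.getElem_mem _)
    have hap : ∀ w, w < 64 → el10 q d ((T.actM w).getD i 0) =
        rp q w * el10 q d (bits.getD i 0) * (rp q w)⁻¹ := fun w hw => by
      rw [H.conj_rp hw, bits_eq i hi', ap_two_pow _ (by simpa [Case.actM] using hi')]
    have : el10 q d ((T.actM u).getD i 0) = el10 q d ((T.actM v).getD i 0) := by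
      rw [hap u hu, hap v hv]
      have hu' : rp q u = el10 q d x * el10 q d y * rp q v := by
        rw [mul_assoc, ← h, ← mul_assoc, H.el10_sq, one_mul]
      rw [hu', H.el10_mul]
      have hc := H.el10_comm (Nat.xor x y)
      generalize hB : rp q v * el10 q d (bits.getD i 0) * (rp q v)⁻¹ = B
      have hBc : Commute (el10 q d (Nat.xor x y)) B := by
        rw [← hB, H.conj_rp hv]; exact hc _
      calc el10 q d (Nat.xor x y) * rp q v * el10 q d (bits.getD i 0) * (el10 q d (Nat.xor x y) * rp q v)⁻¹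
          = el10 q d (Nat.xor x y) * (rp q v * el10 q d (bits.getD i 0) * (rp q v)⁻¹) *
              (el10 q d (Nat.xor x y))⁻¹ := by group
        _ = B := by rw [hB, hBc.eq, mul_inv_cancel_right]
    rw [H.el10_inj (hlt u hu) (hlt v hv) this]
    exact Nat.beq_refl _
  subst e
  exact ⟨rfl, mul_right_cancel h⟩

end Setup

end CfsgLib.U62Pencil
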