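import Cfsg.Agent.U62Pencil.Model
import Cfsg.Agent.PLocal.Replacement

/-!
The Sylow 2-subgroup of a double cover of `PSU₆(2)` in normal form, its unique elementary abelian subgroup
of order `2¹⁰`, and the conjugation of every involution into that subgroup.
-/

set_option autoImplicit false
set_option linter.style.haveILetI false
set_option linter.unusedSectionVars false
set_option maxRecDepth 100000

namespace CfsgLib.U62Pencil

open CfsgLib.RepBounds.Unit CfsgLib.USixMult
open CfsgLib.Schur.Pc (ev tailSubgroup)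

universe u v

variable {F : Type v} [Field F] [Fintype F] {X : Ctx F} {P : Type u} [Group P] [Finite P] {d : P}
  {q : X.cover →* P} {T : Case} (H : Setup X d q T)

theorem div_spec : ∀ {r : ℕ}, r < 131072 → r % 64 < 64 := fun {r} _ => Nat.mod_lt r (by norm_num)

namespace Setup

include H

/-- The elementary abelian subgroup of order `2¹⁰`. -/
noncomputable def Asub : Subgroup P where
  carrier := {g | ∃ x < 1024, g = el10 q d x}
  one_mem' := ⟨0, by norm_num, H.el10_zero.symm⟩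
  mul_mem' := by
    rintro _ _ ⟨x, hx, rfl⟩ ⟨y, hy, rfl⟩
    exact ⟨Nat.xor x y, Nat.xor_lt_two_pow (n := 10) hx hy, H.el10_mul x y⟩
  inv_mem' := by
    rintro _ ⟨x, hx, rfl⟩
    exact ⟨x, hx, H.el10_inv x⟩

theorem mem_Asub {g : P} : g ∈ H.Asub ↔ ∃ x < 1024, g = el10 q d x := Iff.rfl

theorem prj_lt (c : ℕ) : ap (prj T.k) c < 1024 := by
  have h : ∀ k < 3, ∀ m ∈ prj k, m < 1024 := by decide +kernel
  exact ap_lt (h T.k H.lt) c

theorem wa_mem (c : ℕ) : q (ev X.el (wa c)) ∈ H.Asub := ⟨_, H.prj_lt c, H.q_wa c⟩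

theorem d_mem : d ∈ H.Asub := ⟨512, by norm_num, H.el10_d.symm⟩

theorem elementary_Asub : Cfsg.IsElementaryAbelian 2 H.Asub := by
  refine ⟨⟨⟨?_⟩⟩, ?_⟩
  · rintro ⟨_, x, hx, rfl⟩ ⟨_, y, hy, rfl⟩
    exact Subtype.ext (H.el10_comm x y).eq
  · rintro _ ⟨x, hx, rfl⟩
    rw [pow_two, H.el10_sq]

theorem card_Asub : Nat.card H.Asub = 2 ^ 10 := by
  have e : Function.Bijective (fun x : Fin 1024 => (⟨el10 q d x, x, x.2, rfl⟩ : H.Asub)) := by
    refine ⟨fun x y h => Fin.ext (H.el10_inj x.2 y.2 (congrArg Subtype.val h)), ?_⟩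
    rintro ⟨_, x, hx, rfl⟩
    exact ⟨⟨x, hx⟩, rfl⟩
  rw [← Nat.card_eq_of_bijective _ e, Nat.card_fin]
  norm_num

theorem ker_two {c : X.cover} (h : X.nat c ∈ Subgroup.center (suG X.C (Fin 6))) : q c ∈ H.Asub := by
  rcases (H.ker c).2 h with e | e <;> rw [e]
  exacts [one_mem _, H.d_mem]

/-- The Sylow 2-subgroup. -/
noncomputable def Ssub (_H : Setup X d q T) : Subgroup P := (tailSubgroup X.y2 17 0).map q

theorem y2_mem (i : ℕ) (hi : i < 17) : q (X.y2 i) ∈ H.Ssub :=
  ⟨_, Schur.Pc.gen_mem_tailSubgroup X.y2 (Nat.zero_le i) hi, rfl⟩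

theorem el_mem {s : ℕ} (hs : ((List.range 17).any fun j => Nat.beq (xi2.getD j 99) s) = true) :
    q (X.el s) ∈ H.Ssub := by
  obtain ⟨j, hj, e⟩ := List.any_eq_true.1 hs
  rw [← Nat.eq_of_beq_eq_true e]
  exact H.y2_mem j (List.mem_range.1 hj)

theorem Asub_le : H.Asub ≤ H.Ssub := by
  have hn := okNormal_true
  simp only [okNormal, Mathieu.allBelow_iff, Bool.and_eq_true] at hn
  have hal : ∀ i < 11, q (X.el (al.getD i 0)) ∈ H.Ssub := fun i hi => H.el_mem (hn.1.2 i hi)
  have hd : d ∈ H.Ssub := by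
    rcases (show T.k = 0 ∨ T.k = 1 ∨ T.k = 2 by have := H.lt; omega) with e | e | e
    · have h := hal 10 (by norm_num); rwa [H.z16, e] at h
    · have h := hal 9 (by norm_num); rwa [H.z15, e] at h
    · have h := hal 9 (by norm_num); rwa [H.z15, e] at h
  have hG : ∀ g ∈ gens q d, g ∈ H.Ssub := by
    intro g hg
    rcases List.mem_append.1 hg with hg | hg
    · obtain ⟨s, hs, rfl⟩ := List.mem_map.1 hg
      obtain ⟨i, hi, rfl⟩ := List.getElem_of_mem hs
      have hi' : i < 9 := by simpa [al] using hi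
      have := hal i (by omega)
      rwa [List.getD_eq_getElem _ _ (by simp [al]; omega), ← List.getElem_take] at this
    · exact List.mem_singleton.1 hg ▸ hd
  have key : ∀ (G : List P), (∀ g ∈ G, g ∈ H.Ssub) → ∀ c, pr G c ∈ H.Ssub := by
    intro G
    induction G with
    | nil => exact fun _ _ => one_mem _
    | cons g G ih =>
      intro h c
      refine mul_mem ?_ (ih (fun k hk => h k (List.mem_cons_of_mem _ hk)) _)
      cases Nat.beq (Nat.land c 1) 1
      · exact one_mem _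
      · exact h g List.mem_cons_self
  rintro _ ⟨x, -, rfl⟩
  exact key _ hG x

theorem rp_mem {u : ℕ} : rp q u ∈ H.Ssub := by
  have hn := okNormal_true
  simp only [okNormal, Mathieu.allBelow_iff, Bool.and_eq_true] at hn
  rw [rp, wu, ev_sel]
  have key : ∀ (G : List P), (∀ g ∈ G, g ∈ H.Ssub) → ∀ c, pr G c ∈ H.Ssub := by
    intro G
    induction G with
    | nil => exact fun _ _ => one_mem _
    | cons g G ih =>
      intro h c
      refine mul_mem ?_ (ih (fun k hk => h k (List.mem_cons_of_mem _ hk)) _)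
      cases Nat.beq (Nat.land c 1) 1
      · exact one_mem _
      · exact h g List.mem_cons_self
  refine key _ (fun g hg => ?_) u
  obtain ⟨s, hs, rfl⟩ := List.mem_map.1 hg
  obtain ⟨i, hi, rfl⟩ := List.getElem_of_mem hs
  have h1 := hn.2 i (by simpa [ul] using hi)
  rw [List.getD_eq_getElem _ _ hi] at h1
  exact H.el_mem h1

theorem rp_zero : rp q 0 = 1 := by
  rw [rp, show wu 0 = [] from rfl, Schur.Pc.ev_nil, map_one]

/-- The elements in normal form. -/
theorem exists_nf {g : P} (hg : g ∈ H.Ssub) : ∃ x < 1024, ∃ u < 64, g = el10 q d x * rp q u := by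
  have hn := okNormal_true
  simp only [okNormal, Mathieu.allBelow_iff, Bool.and_eq_true] at hn
  obtain ⟨⟨⟨hmul, hy⟩, -⟩, -⟩ := hn
  have hev : ∀ c u, q (ev X.el (wa c ++ wu u)) = el10 q d (ap (prj T.k) c) * rp q u := fun c u => by
    rw [Schur.Pc.ev_append, map_mul, H.q_wa]; rfl
  have hgen : ∀ j < 6, gl.getD j 0 = ul.getD j 0 := by decide
  -- left multiplication by the six generators
  have step : ∀ j < 6, ∀ x, x < 1024 → ∀ u, u < 64 →
      ∃ x' < 1024, ∃ u' < 64, q (X.el (ul.getD j 0)) * (el10 q d x * rp q u) = el10 q d x' * rp q u' := by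
    intro j hj x hx u hu
    have h := hmul j hj u hu
    set r := (mulTab.getD j []).getD u 0
    have e := congrArg q (X.ev_eq_of_weq h.2)
    rw [hev, Schur.Pc.ev_cons, map_mul] at e
    have hm := H.ok.mat
    simp only [Case.okMat, Mathieu.allBelow_iff, Bool.and_eq_true, List.all_eq_true, Nat.blt_eq] at hm
    refine ⟨_, Nat.xor_lt_two_pow (n := 10) (ap_lt (hm j (by omega)).2 x) (H.prj_lt (Nat.div r 64)),
      Nat.mod r 64, Nat.mod_lt _ (by norm_num), ?_⟩
    show _ = el10 q d (Nat.xor _ _) * _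
    rw [← H.el10_mul, mul_assoc, ← e, ← H.conj_gl (show j < 9 by omega), hgen j hj]
    show _ = q (X.el (ul.getD j 0)) * el10 q d x * (q (X.el (ul.getD j 0)))⁻¹ * (q (X.el (ul.getD j 0)) * rp q u)
    group
  have stepw : ∀ (J : List ℕ), (∀ j ∈ J, j < 6) → ∀ x, x < 1024 → ∀ u, u < 64 →
      ∃ x' < 1024, ∃ u' < 64,
        q (ev X.el (J.map fun j => ul.getD j 0)) * (el10 q d x * rp q u) = el10 q d x' * rp q u' := by
    intro J
    induction J with
    | nil => exact fun _ x hx u hu => ⟨x, hx, u, hu, by simp⟩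
    | cons j J ih =>
      intro hJ x hx u hu
      obtain ⟨x1, hx1, u1, hu1, e1⟩ := ih (fun k hk => hJ k (List.mem_cons_of_mem _ hk)) x hx u hu
      obtain ⟨x2, hx2, u2, hu2, e2⟩ := step j (hJ j List.mem_cons_self) x1 hx1 u1 hu1
      refine ⟨x2, hx2, u2, hu2, ?_⟩
      rw [List.map_cons, Schur.Pc.ev_cons, map_mul, mul_assoc, e1, e2]
  have hw : ∀ u < 64, wu u = ([0, 1, 2, 3, 4, 5].filter fun j => u.testBit j).map fun j => ul.getD j 0 := by
    decide +kernel
  have left : ∀ i < 17, ∀ x, x < 1024 → ∀ u, u < 64 →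
      ∃ x' < 1024, ∃ u' < 64, q (X.y2 i) * (el10 q d x * rp q u) = el10 q d x' * rp q u' := by
    intro i hi x hx u hu
    have h := hy i hi
    set r := yTab.getD i 0
    have e := congrArg q (X.ev_eq_of_weq h.2)
    rw [hev, Schur.Pc.ev_cons, Schur.Pc.ev_nil, mul_one] at e
    obtain ⟨x1, hx1, u1, hu1, e1⟩ := stepw (([0, 1, 2, 3, 4, 5].filter fun j => (Nat.mod r 64).testBit j))
      (fun j hj => by
        have := (List.mem_filter.1 hj).1
        simp only [List.mem_cons, List.not_mem_nil, or_false] at this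
        omega) x hx u hu
    rw [← hw (Nat.mod r 64) (Nat.mod_lt _ (by norm_num))] at e1
    refine ⟨_, Nat.xor_lt_two_pow (n := 10) (H.prj_lt (Nat.div r 64)) hx1, u1, hu1, ?_⟩
    show q (X.el (y2n i)) * _ = el10 q d (Nat.xor _ _) * _
    rw [← H.el10_mul, mul_assoc, ← e1, show y2n i = xi2.getD i 99 from rfl, e, mul_assoc]
    rfl
  obtain ⟨c, hc, rfl⟩ := hg
  rw [SetLike.mem_coe, tailSubgroup, ← Subgroup.mem_toSubmonoid, Subgroup.closure_toSubmonoid_of_finite] at hc
  induction hc using Submonoid.closure_induction_left with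
  | one =>
    exact ⟨0, by norm_num, 0, by norm_num, by rw [map_one, H.el10_zero, one_mul, H.rp_zero]⟩
  | mul_left a ha b _ ih =>
    obtain ⟨i, ⟨-, hi⟩, rfl⟩ := ha
    obtain ⟨x, hx, u, hu, e⟩ := ih
    rw [map_mul, e]
    exact left i hi x hx u hu

theorem card_Ssub : Nat.card H.Ssub = 2 ^ 16 := by
  have hm : ∀ (x : Fin 1024) (u : Fin 64), el10 q d x * rp q u ∈ H.Ssub := fun x u =>
    mul_mem (H.Asub_le ⟨x, x.2, rfl⟩) H.rp_mem
  have e : Function.Bijective (fun p : Fin 1024 × Fin 64 => (⟨el10 q d p.1 * rp q p.2, hm p.1 p.2⟩ : H.Ssub)) := by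
    refine ⟨fun a b h => ?_, ?_⟩
    · obtain ⟨h1, h2⟩ := H.rp_inj a.2.2 b.2.2 (congrArg Subtype.val h)
      exact Prod.ext (Fin.ext (H.el10_inj a.1.2 b.1.2 h2)) (Fin.ext h1)
    · rintro ⟨g, hg⟩
      obtain ⟨x, hx, u, hu, rfl⟩ := H.exists_nf hg
      exact ⟨(⟨x, hx⟩, ⟨u, hu⟩), rfl⟩
  rw [← Nat.card_eq_of_bijective _ e, Nat.card_prod, Nat.card_fin, Nat.card_fin]
  norm_num

/-- The Sylow 2-subgroup. -/
noncomputable def sylow : Sylow 2 P :=
  haveI : Fact (Nat.Prime 2) := ⟨Nat.prime_two⟩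
  Sylow.ofCard H.Ssub (by
    rw [H.card_Ssub, H.card, show 18393661440 = 2 ^ 16 * 280665 by norm_num,
      Nat.factorization_mul (by norm_num) (by norm_num), Finsupp.add_apply,
      Nat.Prime.factorization_pow Nat.prime_two, Finsupp.single_eq_same,
      Nat.factorization_eq_zero_of_not_dvd (show ¬ 2 ∣ 280665 by norm_num), add_zero])

theorem coe_sylow : (H.sylow : Subgroup P) = H.Ssub := rfl

/-- The elementary abelian subgroups of the Sylow 2-subgroup. -/
theorem elementary_le {B : Subgroup P} (hBS : B ≤ H.Ssub) (hB : Cfsg.IsElementaryAbelian 2 B) :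
    Nat.card B ≤ 1024 ∧ (1024 ≤ Nat.card B → B = H.Asub) := by
  classical
  by_cases hBA : B ≤ H.Asub
  · have h := Subgroup.card_le_of_le hBA
    rw [H.card_Asub] at h
    exact ⟨by omega, fun he => Subgroup.eq_of_le_of_card_ge hBA (by rw [H.card_Asub]; omega)⟩
  suffices hlt : Nat.card B < 1024 by exact ⟨hlt.le, fun he => absurd he (not_le.2 hlt)⟩
  choose fx hfx fu hfu he using fun (b : B) => H.exists_nf (hBS b.2)
  have hBc : ∀ a b : B, Commute (a : P) b := fun a b =>
    CfsgLib.PLocal.comm_of_isMulCommutative hB.1 a.2 b.2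
  -- the action of a member
  have hact : ∀ (b : B) (x : ℕ), (b : P) * el10 q d x * (b : P)⁻¹ = el10 q d (ap (T.actM (fu b)) x) := by
    intro b x
    rw [he b, show el10 q d (fx b) * rp q (fu b) * el10 q d x * (el10 q d (fx b) * rp q (fu b))⁻¹ =
      el10 q d (fx b) * (rp q (fu b) * el10 q d x * (rp q (fu b))⁻¹) * (el10 q d (fx b))⁻¹ by group,
      H.conj_rp (hfu b), (H.el10_comm _ _).eq, mul_inv_cancel_right]
  have hbit : ∀ {u v : ℕ}, u < 64 → ∀ i ∈ List.range 10,
      (ap (T.actM u) ((T.actM v).getD i 0)) = ap (T.actM u) (ap (T.actM v) (bits.getD i 0)) := by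
    intro u v _ i hi
    rw [bits_eq i (List.mem_range.1 hi), ap_two_pow _ (by simpa [Case.actM] using hi)]
  have hinv : ∀ b : B, T.isInv (fu b) = true := by
    intro b
    simp only [Case.isInv, List.all_eq_true]
    intro i hi
    rw [hbit (hfu b) i hi]
    have hb1 : (b : P) * b = 1 := by rw [← pow_two]; exact hB.2 _ b.2
    have h1 := hact b (bits.getD i 0)
    have h2 := hact b (ap (T.actM (fu b)) (bits.getD i 0))
    rw [← h1, show (b : P) * ((b : P) * el10 q d (bits.getD i 0) * (b : P)⁻¹) * (b : P)⁻¹ =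
      ((b : P) * b) * el10 q d (bits.getD i 0) * ((b : P) * b)⁻¹ by group, hb1, one_mul, inv_one, mul_one] at h2
    have hlt : bits.getD i 0 < 1024 := by
      rw [bits_eq i (List.mem_range.1 hi)]
      exact Nat.pow_lt_pow_right (by norm_num) (List.mem_range.1 hi)
    rw [← H.el10_inj hlt (H.actM_lt (hfu b) _) h2]
    exact Nat.beq_refl _
  have hcom : ∀ a b : B, T.isCom (fu a) (fu b) = true := by
    intro a b
    simp only [Case.isCom, List.all_eq_true]
    intro i hi
    rw [hbit (hfu a) i hi, hbit (hfu b) i hi]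
    have h1 : ∀ a b : B, el10 q d (ap (T.actM (fu a)) (ap (T.actM (fu b)) (bits.getD i 0))) =
        ((a : P) * b) * el10 q d (bits.getD i 0) * ((a : P) * b)⁻¹ := fun a b => by
      rw [← hact a, ← hact b]; group
    have := (h1 a b).trans (((hBc a b).eq ▸ rfl : ((a : P) * b) * el10 q d (bits.getD i 0) * ((a : P) * b)⁻¹ =
      ((b : P) * a) * el10 q d (bits.getD i 0) * ((b : P) * a)⁻¹).trans (h1 b a).symm)
    rw [H.el10_inj (H.actM_lt (hfu a) _) (H.actM_lt (hfu b) _) this]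
    exact Nat.beq_refl _
  haveI := Fintype.ofFinite B
  set U : Finset ℕ := Finset.univ.image fu with hU
  have hfix := H.ok.fix'
  simp only [Case.okFix, Bool.and_eq_true, Mathieu.allBelow_iff, Bool.or_eq_true, Nat.ble_eq] at hfix
  obtain ⟨⟨⟨hpair, hone⟩, hW1⟩, hW2⟩ := hfix
  set W : ℕ → Finset ℕ := fun m => (Finset.range 64).filter fun u => Nat.land u m = 0 with hWdef
  have hUW : U ⊆ W 12 ∨ U ⊆ W 3 := by
    by_contra hcon
    simp only [not_or, Finset.not_subset, hU, Finset.mem_image, Finset.mem_univ, true_and] at hcon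
    obtain ⟨⟨_, ⟨a, rfl⟩, ha⟩, ⟨_, ⟨b, rfl⟩, hb⟩⟩ := hcon
    simp only [hWdef, Finset.mem_filter, Finset.mem_range, hfu, true_and] at ha hb
    rcases hpair _ (hfu a) _ (hfu b) with (h | h) | h
    · rw [hinv a, hinv b, hcom a b] at h; exact Bool.noConfusion h
    · exact ha (Nat.eq_of_beq_eq_true h.1)
    · exact hb (Nat.eq_of_beq_eq_true h.2)
  have hWc : (W 12).card = 16 ∧ (W 3).card = 16 := by
    rw [hWdef]; constructor <;> decide +kernel
  have hU16 : U.card ≤ 16 := by
    rcases hUW with h | h <;> have := Finset.card_le_card h <;> omega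
  -- the fibres are cosets of `B ⊓ A`
  have hfib : Nat.card B = U.card * Nat.card ↥(B ⊓ H.Asub) := by
    haveI := Fintype.ofFinite ↥(B ⊓ H.Asub)
    rw [Nat.card_eq_fintype_card, Nat.card_eq_fintype_card, ← Finset.card_univ,
      Finset.card_eq_sum_card_image fu, hU]
    refine Finset.sum_const_nat ?_
    intro w hw
    obtain ⟨b₁, -, rfl⟩ := Finset.mem_image.1 hw
    symm
    refine Finset.card_bij (fun (z : ↥(B ⊓ H.Asub)) _ => (⟨z, z.2.1⟩ : B) * b₁) ?_ ?_ ?_
    · intro z _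
      simp only [Finset.mem_filter, Finset.mem_univ, true_and]
      obtain ⟨x, hx, hzx⟩ := z.2.2
      refine (H.rp_inj (hfu _) (hfu b₁) (x := fx ((⟨z, z.2.1⟩ : B) * b₁)) (y := Nat.xor x (fx b₁)) ?_).1
      rw [← he, ← H.el10_mul, mul_assoc, ← he, ← hzx]
      rfl
    · intro z _ z' _ e
      exact Subtype.ext (congrArg (fun t : B => (t : P)) (mul_right_cancel e) :)
    · intro b hb
      simp only [Finset.mem_filter, Finset.mem_univ, true_and] at hb
      refine ⟨⟨(b : P) * (b₁ : P)⁻¹, B.mul_mem b.2 (B.inv_mem b₁.2), ?_⟩, Finset.mem_univ _, ?_⟩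
      · refine ⟨Nat.xor (fx b) (fx b₁), Nat.xor_lt_two_pow (n := 10) (hfx b) (hfx b₁), ?_⟩
        rw [← H.el10_mul, he b, he b₁, hb, _root_.mul_inv_rev, H.el10_inv, ← mul_assoc, mul_inv_cancel_right]
      · exact Subtype.ext (by simp)
  have hcnt : ∀ l : List ℕ, (∀ u ∈ l, u ∈ U) → Nat.card ↥(B ⊓ H.Asub) ≤ T.fixCount l := by
    intro l hl
    choose fz hfz hz using fun (z : ↥(B ⊓ H.Asub)) => z.2.2
    rw [Case.fixCount, List.countP_eq_length_filter, ← List.toFinset_card_of_nodup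
      ((List.nodup_range).filter _)]
    haveI := Fintype.ofFinite ↥(B ⊓ H.Asub)
    rw [Nat.card_eq_fintype_card, ← Finset.card_univ]
    refine Finset.card_le_card_of_injOn fz (fun z _ => ?_) (fun z _ z' _ e => Subtype.ext (by rw [hz z, hz z', e]))
    simp only [List.coe_toFinset, Set.mem_ofPred_eq, List.mem_filter, List.mem_range, List.all_eq_true,
      List.mem_map]
    refine ⟨hfz z, ?_⟩
    rintro _ ⟨u, hu, rfl⟩
    obtain ⟨b, -, rfl⟩ := Finset.mem_image.1 (hl u hu)
    have h1 := hact b (fz z)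
    rw [← hz z, (hBc b ⟨z, z.2.1⟩).eq, mul_inv_cancel_right, hz z] at h1
    rw [← H.el10_inj (hfz z) (H.actM_lt (hfu b) _) h1]
    exact Nat.beq_refl _
  obtain ⟨b₀, hb₀⟩ : ∃ b : B, fu b ≠ 0 := by
    by_contra hall
    push Not at hall
    refine hBA fun g hg => ⟨fx ⟨g, hg⟩, hfx _, ?_⟩
    have := he ⟨g, hg⟩
    rw [hall, H.rp_zero, mul_one] at this
    exact this
  have h64 : Nat.card ↥(B ⊓ H.Asub) ≤ 64 := by
    refine (hcnt [fu b₀] (fun u hu => ?_)).trans ?_
    · rw [List.mem_singleton.1 hu]; exact Finset.mem_image_of_mem _ (Finset.mem_univ _)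
    rcases hone _ (hfu b₀) with (h | h) | h
    · exact absurd (Nat.eq_of_beq_eq_true h) hb₀
    · rw [hinv b₀] at h; exact Bool.noConfusion h
    · exact h
  by_cases h8 : U.card ≤ 8
  · rw [hfib]
    calc _ ≤ 8 * 64 := Nat.mul_le_mul h8 h64
      _ < 1024 := by norm_num
  -- otherwise the image is one of the two groups of order 16
  have h16 : U.card = 16 := by
    haveI : Fact (Nat.Prime 2) := ⟨Nat.prime_two⟩
    obtain ⟨n, hn⟩ := IsPGroup.iff_card.1 (CfsgLib.PLocal.isPGroup_of_isElementaryAbelian hB)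
    obtain ⟨m, -, hm⟩ := (Nat.dvd_prime_pow Nat.prime_two).1 (hn ▸ hfib ▸ dvd_mul_right U.card _)
    rw [hm] at h8 hU16 ⊢
    rcases Nat.lt_or_ge m 4 with h | h
    · exfalso
      have : 2 ^ m ≤ 2 ^ 3 := Nat.pow_le_pow_right (by norm_num) (by omega)
      omega
    rcases h.eq_or_lt with rfl | h
    · norm_num
    · exfalso
      have : 2 ^ 5 ≤ 2 ^ m := Nat.pow_le_pow_right (by norm_num) h
      omega
  have fin : ∀ m : ℕ, U ⊆ W m → (W m).card = 16 →
      T.fixCount ((List.range 64).filter fun u => Nat.beq (Nat.land u m) 0) ≤ 32 → Nat.card B < 1024 := by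
    intro m hsub hc h32
    have hUe := Finset.eq_of_subset_of_card_le hsub (by omega)
    have h := (hcnt _ fun u hu => ?_).trans h32
    · rw [hfib, h16]; omega
    rw [hUe]
    simp only [List.mem_filter, List.mem_range] at hu
    exact Finset.mem_filter.2 ⟨Finset.mem_range.2 hu.1, Nat.eq_of_beq_eq_true hu.2⟩
  rcases hUW with h | h
  exacts [fin 12 h hWc.1 hW1, fin 3 h hWc.2 hW2]

/-- Every involution is conjugate into the elementary abelian subgroup. -/
theorem exists_conj_mem {y : P} (hy : y * y = 1) : ∃ g : P, g * y * g⁻¹ ∈ H.Asub := by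
  haveI : Fact (Nat.Prime 2) := ⟨Nat.prime_two⟩
  haveI : Finite X.cover := inferInstance
  obtain ⟨c, rfl⟩ := H.surj y
  set k := X.nat c with hk
  have hkk : k * k ∈ Subgroup.center (suG X.C (Fin 6)) := by
    rw [hk, ← map_mul, ← H.ker, map_mul, hy]; exact Or.inl rfl
  -- an involution over the same element
  have hc3 : ∀ z ∈ Subgroup.center (suG X.C (Fin 6)), z * z * z = 1 := by
    intro z hz
    obtain ⟨a, ha, hap⟩ := X.exists_scalar hz
    refine suG_ext X.C fun x => ?_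
    rw [app_mul, app_mul, hap, hap, hap, app_one, smul_smul, smul_smul,
      show a * a * a = a ^ 3 by ring, U62.pow_three X.C X.hC ha, one_smul]
  set c' := c * (c * c) with hc'
  have hc'q : q c' = q c := by rw [hc', map_mul, map_mul, hy, mul_one]
  have hh : X.nat c' * X.nat c' = 1 := by
    rw [hc', map_mul, map_mul, ← hk, ← hc3 _ hkk]
    simp only [mul_assoc]
  obtain ⟨l, hl, hprod⟩ := U62.exists_list_tv X.C X.hC (X.nat c') hh
  -- the group of the transvections
  set K := Subgroup.closure {g | ∃ v ∈ l, g = U62.tv X.C v} with hK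
  have hKc : ∀ a ∈ K, ∀ b ∈ K, Commute a b := by
    intro a ha b hb
    haveI : IsMulCommutative ↥K := Subgroup.isMulCommutative_closure (by
      rintro _ ⟨v, hv, rfl⟩ _ ⟨w, hw, rfl⟩
      obtain ⟨hvv, -, x, rfl⟩ := hl v hv
      obtain ⟨hww, -, x', rfl⟩ := hl w hw
      exact U62.commute_tv X.C X.hC hvv hww (U62.herm_image X.C X.hC hh _ _))
    exact CfsgLib.PLocal.comm_of_isMulCommutative (inferInstance : IsMulCommutative ↥K) ha hb
  have hK2 : ∀ a ∈ K, a * a = 1 := by
    intro a ha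
    induction ha using Subgroup.closure_induction with
    | mem a ha =>
      obtain ⟨v, hv, rfl⟩ := ha
      exact U62.tv_mul_self X.C X.hC (hl v hv).1
    | one => exact one_mul 1
    | mul a b ha hb iha ihb => rw [(hKc b hb a ha).mul_mul_mul_comm, iha, ihb, one_mul]
    | inv a ha iha => rw [inv_eq_of_mul_eq_one_right iha, iha]
  set E := (K.comap X.nat).map q with hE
  have hEp : IsPGroup 2 E := by
    rintro ⟨_, e, he, rfl⟩
    refine ⟨2, Subtype.ext ?_⟩
    show q e ^ (2 ^ 2) = 1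
    have h1 : X.nat (e * e) = 1 := by rw [map_mul]; exact hK2 _ he
    rcases (H.ker (e * e)).2 (h1.symm ▸ one_mem _) with h2 | h2 <;>
      rw [show (2 : ℕ) ^ 2 = 2 + 2 from rfl, pow_add, pow_two (q e), ← map_mul, h2]
    exacts [one_mul 1, H.sq]
  obtain ⟨S', hS'⟩ := hEp.exists_le_sylow
  obtain ⟨g, hg⟩ := MulAction.exists_smul_eq P S' H.sylow
  obtain ⟨g₀, rfl⟩ := H.surj g
  refine ⟨q g₀, ?_⟩
  have hES : ∀ z ∈ E, q g₀ * z * (q g₀)⁻¹ ∈ H.Ssub := fun z hz => by
    rw [← H.coe_sylow, ← hg, Sylow.coe_subgroup_smul]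
    exact ⟨z, hS' hz, rfl⟩
  -- elements of the Sylow subgroup preserve the plane
  have hpl := okPlane_true
  simp only [okPlane, Bool.and_eq_true, List.all_eq_true, List.mem_range, Mathieu.allBelow_iff, Nat.blt_eq] at hpl
  obtain ⟨⟨⟨⟨hlen, hvec⟩, hgen⟩, hout⟩, htv⟩ := hpl
  have memb : ∀ {x : ℕ} {L : List ℕ}, mem x L = true ↔ x ∈ L := fun {x L} => by
    simp only [mem, List.any_eq_true]
    exact ⟨fun ⟨y, hy, e⟩ => Nat.eq_of_beq_eq_true e ▸ hy, fun h => ⟨x, h, Nat.beq_refl _⟩⟩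
  have hpres : ∀ w ∈ tailSubgroup X.y2 17 0, ∀ v ∈ plane, ∃ v' ∈ plane,
      app X.C (X.nat w) (X.dec v) = X.dec v' := by
    intro w hw
    rw [tailSubgroup, ← Subgroup.mem_toSubmonoid, Subgroup.closure_toSubmonoid_of_finite] at hw
    induction hw using Submonoid.closure_induction with
    | mem w hw =>
      obtain ⟨i, ⟨-, hi⟩, rfl⟩ := hw
      intro v hv
      refine ⟨_, memb.1 (hgen i hi v hv), ?_⟩
      rw [Ctx.y2, Ctx.el, X.nat_elt]
      exact (X.app_code _ (hvec v hv).1.1).1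
    | one => exact fun v hv => ⟨v, hv, by rw [map_one, app_one]⟩
    | mul a b _ _ iha ihb =>
      intro v hv
      obtain ⟨v1, hv1, e1⟩ := ihb v hv
      obtain ⟨v2, hv2, e2⟩ := iha v1 hv1
      exact ⟨v2, hv2, by rw [map_mul, app_mul, e1, e2]⟩
  -- the transvections conjugate into the subgroup
  have hgenA : ∀ v ∈ l, ∃ a, q a ∈ H.Asub ∧ X.nat a = X.nat g₀ * U62.tv X.C v * (X.nat g₀)⁻¹ := by
    intro v hv
    obtain ⟨hvv, hv0, -⟩ := hl v hv
    obtain ⟨e, he⟩ := X.nat_surjective (U62.tv X.C v)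
    have heE : q e ∈ E := ⟨e, show X.nat e ∈ K from he ▸ Subgroup.subset_closure ⟨v, hv, rfl⟩, rfl⟩
    obtain ⟨w, hw, hwe⟩ := hES _ heE
    have hz : X.nat (w⁻¹ * (g₀ * e * g₀⁻¹)) ∈ Subgroup.center (suG X.C (Fin 6)) :=
      (H.ker _).1 (Or.inl (by simp only [map_mul, map_inv, hwe]; group))
    obtain ⟨a, ha0, ha⟩ := X.exists_scalar hz
    obtain ⟨a, ha4, rfl⟩ := X.fv_surjective a
    have hiso : herm X.C (app X.C (X.nat g₀) v) (app X.C (X.nat g₀) v) = 0 := by rw [herm_app, hvv]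
    obtain ⟨cv, hcv, hcve⟩ := X.dec_surjective (app X.C (X.nat g₀) v)
    have hhc : hc cv cv = 0 := by
      rw [← hcve, X.herm_dec, ← X.fv_zero] at hiso
      exact X.fv_injective (hc_lt cv cv) (by norm_num) hiso
    have hconj : X.nat g₀ * U62.tv X.C v * (X.nat g₀)⁻¹ = X.T cv := by
      rw [U62.conj_tv X.C X.hC _ hvv, ← hcve]; rfl
    have hin : cv ∈ plane := by
      have hh := hout cv hcv
      simp only [Bool.or_eq_true] at hh
      rcases hh with (h | h) | h
      · simp [hhc] at h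
      · exact memb.1 h
      exfalso
      obtain ⟨v₀, hv₀, hnot⟩ := List.any_eq_true.1 h
      refine Bool.eq_false_iff.1 (Bool.not_eq_true' _ ▸ hnot) (memb.2 ?_)
      obtain ⟨v', hv', e'⟩ := hpres w hw v₀ hv₀
      have hv4 : v₀ < 4096 := (hvec v₀ hv₀).1.1
      have hv4' : v' < 4096 := (hvec v' hv').1.1
      have e1 : X.T cv = X.nat w * X.nat (w⁻¹ * (g₀ * e * g₀⁻¹)) := by
        rw [← map_mul, mul_inv_cancel_left, map_mul, map_mul, map_inv, he, hconj]
      have e2 := X.app_T hcv hhc (x := v₀)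
      rw [e1, app_mul, ha, app_smul, e', ← X.dec_vsmul ha4 hv4'] at e2
      rw [← X.dec_injective (vsmul_spec ha4 hv4').1 (tvc_lt hcv hv4) e2]
      have hane : a ≠ 0 := fun e => ha0 (by rw [e, X.fv_zero])
      exact memb.1 ((hvec v' hv').2 a (by simp; omega))
    obtain ⟨j, hj, hje⟩ := List.getElem_of_mem hin
    have hj64 : j < 64 := by rw [Nat.eq_of_beq_eq_true hlen] at hj; exact hj
    have ht := (htv j hj64).2
    refine ⟨ev X.el (wa (planeTv.getD j 0)), H.wa_mem _, hconj.symm ▸ X.ext_bas fun i hi => ?_⟩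
    rw [X.nat_ev, (X.app_wmap _ (bas_lt hi)).1, X.app_T hcv hhc, ← state_getD _ hi,
      Nat.eq_of_beq_eq_true (ht i hi), List.getD_eq_getElem _ _ hj, hje]
  have hconjK : K.map (MulAut.conj (X.nat g₀)).toMonoidHom ≤ (H.Asub.comap q).map X.nat := by
    rw [hK, MonoidHom.map_closure, Subgroup.closure_le]
    rintro _ ⟨_, ⟨v, hv, rfl⟩, rfl⟩
    obtain ⟨a, ha, hae⟩ := hgenA v hv
    exact ⟨a, ha, hae⟩
  have hmem : X.nat c' ∈ K := by
    rw [hprod]
    refine Subgroup.list_prod_mem _ fun x hx => ?_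
    obtain ⟨v, hv, rfl⟩ := List.mem_map.1 hx
    exact Subgroup.subset_closure ⟨v, hv, rfl⟩
  obtain ⟨a, ha, hae⟩ := hconjK ⟨_, hmem, rfl⟩
  have hz : X.nat (a⁻¹ * (g₀ * c' * g₀⁻¹)) = 1 := by
    simp only [map_mul, map_inv]
    rw [hae]
    show _⁻¹ * _ = 1
    simp [MulAut.conj_apply, mul_assoc]
  have := mul_mem (show q a ∈ H.Asub from ha) (H.ker_two (hz.symm ▸ one_mem _))
  rw [← map_mul, mul_inv_cancel_left, map_mul, map_mul, map_inv, hc'q] at this
  exact this

end Setup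

end CfsgLib.U62Pencil
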